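import Groth.Agent.Lib.HypSq96.Euler

/-!
# Vanishing for box products twisted by the graph of an involution
-/

set_option autoImplicit false
set_option linter.style.haveILetI false
set_option linter.unusedSectionVars false
set_option maxHeartbeats 1000000
universe u

open CategoryTheory CategoryTheory.Limits AlgebraicGeometry TopologicalSpace

namespace Groth.Agent.Lib.HypSq96.Vanish

open Groth.Agent.Lib Groth.Agent.Lib.HypSq96.Basic Groth.Agent.Lib.HypSq96.Table Groth.Agent.Lib.Snapper
open Groth.Agent.Lib.TensorMod.Basic (comm assoc tensorIso leftUnit rightUnit)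
open Groth.Agent.Lib.TensorMod.Invertible (isInvertible_tensorPow isInvertible_tensorMod)
open Groth.Agent.Lib.Curves.LES (isoK exactK₂)

variable {k : Type u} [Field k] [IsAlgClosed k] {C : Scheme.{u}} [C.Over (Spec (CommRingCat.of k))]
  [IsProper (C ↘ Spec (CommRingCat.of k))] [Smooth (C ↘ Spec (CommRingCat.of k))] [ConnectedSpace ↥C]
  (hdim : topologicalKrullDim ↥C = 1)

local notation "pC" => (C ↘ Spec (CommRingCat.of k))
local notation "SS" => pullback pC pC

include hdim

/-- Twists of the structure sheaf of a section are computed on the curve. -/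
theorem nonempty_twist_quot_equiv (s : C ⟶ SS) (hs : s ≫ pullback.fst pC pC = 𝟙 C)
    {M : (SS).Modules} (hM : PicF.IsInvertible M) (q : ℕ) :
    letI := sqOver (k := k) (C := C)
    Nonempty (Coh.HH SS (CohB1.tensorMod M (_root_.ClSub.quotMod s.ker)) q ≃ₗ[k]
      Coh.HH C ((Scheme.Modules.pullback s).obj M) q) := by
  letI := sqOver (k := k) (C := C)
  haveI := isIntegral_C (k := k) hdim
  haveI : IsClosedImmersion (s ≫ pullback.fst pC pC) := hs ▸ inferInstance
  haveI : IsClosedImmersion s := IsClosedImmersion.of_comp s (pullback.fst pC pC)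
  letI : s.image.Over (Spec (CommRingCat.of k)) := SurfInt.Surface.overSub (k := k) s.ker
  haveI : IsIso s.toImage := inferInstance
  let P := (Scheme.Modules.pullback s.imageι).obj M
  have hP : PicF.IsInvertible P := PicLoc.isInvertible_pullback s.imageι hM
  haveI : P.IsQuasicoherent := TensorMod.QCohInv.isQCoh_of_isInvertible hP
  let t := s.toImage
  haveI : IsIso t := inferInstanceAs (IsIso s.toImage)
  haveI : ((Scheme.Modules.pullback t).obj P).IsQuasicoherent :=
    TensorMod.QCohInv.isQCoh_of_isInvertible (PicLoc.isInvertible_pullback t hP)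
  have hover : t ≫ (s.image ↘ Spec (CommRingCat.of k)) = pC := by
    show s.toImage ≫ s.imageι ≫ pullback.fst pC pC ≫ pC = pC
    rw [s.toImage_imageι_assoc, reassoc_of% hs]
  have hEP := Modules.DualBasis.hasDBases_of_isFinLocFree
    (TensorMod.LocFree.of_rank (TensorMod.LocFree.of_isInvertible hP))
  let eO : Coh.structureModule s.image ≅ (Coh.push t).obj (Coh.structureModule C) :=
    @asIso _ _ _ _ (_root_.ClSub.unitToPush t) (SurfInt.PushIso.isIso_unitToPush t)
  let eP : (Coh.push t).obj ((Scheme.Modules.pullback t).obj P) ≅ P :=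
    (Coh.push t).mapIso (rightUnit ((Scheme.Modules.pullback t).obj P)).symm ≪≫
      ((Modules.ProjFormula.projIso t hEP).app (Coh.structureModule C)).symm ≪≫
      tensorIso (Iso.refl P) eO.symm ≪≫ rightUnit P
  have hEM := Modules.DualBasis.hasDBases_of_isFinLocFree
    (TensorMod.LocFree.of_rank (TensorMod.LocFree.of_isInvertible hM))
  let e : CohB1.tensorMod M (_root_.ClSub.quotMod s.ker) ≅ (Coh.push s.imageι).obj P :=
    (Modules.ProjFormula.projIso s.imageι hEM).app (Coh.structureModule s.image) ≪≫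
      (Coh.push s.imageι).mapIso (rightUnit P)
  exact ⟨(isoK k e q).trans ((ZarCoh.Linear.affineLinearEquiv (A := k) s.imageι rfl P q).trans
    ((isoK k eP.symm q).trans ((ZarCoh.Linear.affineLinearEquiv (A := k) t hover _ q).trans
      (isoK k ((Scheme.Modules.pullbackComp t s.imageι).app M ≪≫
        (Scheme.Modules.pullbackCongr s.toImage_imageι).app M) q))))⟩

theorem subsingleton_twist_quot (s : C ⟶ SS) (hs : s ≫ pullback.fst pC pC = 𝟙 C)
    {M : (SS).Modules} (hM : PicF.IsInvertible M) (q : ℕ)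
    (h : Subsingleton (Coh.HH C ((Scheme.Modules.pullback s).obj M) q)) :
    Subsingleton (Coh.HH SS (CohB1.tensorMod M (_root_.ClSub.quotMod s.ker)) q) := by
  letI := sqOver (k := k) (C := C)
  obtain ⟨e⟩ := nonempty_twist_quot_equiv hdim s hs hM q
  exact e.toEquiv.subsingleton

theorem deg_graph {σ : C ⟶ C} (hσσ : σ ≫ σ = 𝟙 C) (hσp : σ ≫ pC = pC)
    {N : (SS).Modules} (hN : PicF.IsInvertible N)
    (hNinv : _root_.ClSub.IsInverseOf N (_root_.ClSub.idealMod
      (pullback.lift (𝟙 C) σ ((Category.id_comp pC).trans hσp.symm)).ker))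
    {F G : C.Modules} (hF : PicF.IsInvertible F) (hG : PicF.IsInvertible G) (j : ℕ) :
    Curv2.deg k C ((Scheme.Modules.pullback (pullback.lift (𝟙 C) σ ((Category.id_comp pC).trans hσp.symm))).obj
        (CohB1.tensorMod (box (k := k) F G) (CohB1.tensorPow N j))) 1 =
      Curv2.deg k C F 1 + Curv2.deg k C G 1 + (j : ℤ) * (2 - 2 * (Curv2.genus k C : ℤ)) := by
  letI := sqOver (k := k) (C := C)
  haveI := isIntegral_C (k := k) hdim
  have hB : PicF.IsInvertible (box (k := k) F G) :=
    isInvertible_tensorMod (PicLoc.isInvertible_pullback _ hF) (PicLoc.isInvertible_pullback _ hG)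
  set s := pullback.lift (𝟙 C) σ ((Category.id_comp pC).trans hσp.symm)
  have hs : s ≫ pullback.fst pC pC = 𝟙 C := pullback.lift_fst _ _ _
  have h1 := Surf.intNum_graph_self hdim hσσ hσp hN hNinv
  rw [intNum_section hdim s hs hN hNinv hN] at h1
  have h2 := Euler.intNum_box_graph hdim hσσ hσp hN hNinv hF hG
  rw [IntNum.intNum_pair_comm, intNum_section hdim s hs hN hNinv hB] at h2
  rw [Curves.Euler.deg_eq_of_iso (TensorMod.Pullback.pullbackTensorIso s _ _) 1,
    Curves.Degree.deg_tensor hdim.le (PicLoc.isInvertible_pullback s hB)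
      (PicLoc.isInvertible_pullback s (isInvertible_tensorPow hN j)),
    Curves.Euler.deg_eq_of_iso (Ample.Pow.pullbackPow s N j) 1,
    SurfInt.CurvePos.deg_tensorPow hdim.le (PicLoc.isInvertible_pullback s hN) j, h1, h2]

/-- Induction on the multiple of the graph. -/
theorem subsingleton_twist {σ : C ⟶ C} (hσp : σ ≫ pC = pC)
    {N : (SS).Modules} (hN : PicF.IsInvertible N)
    (hNinv : _root_.ClSub.IsInverseOf N (_root_.ClSub.idealMod
      (pullback.lift (𝟙 C) σ ((Category.id_comp pC).trans hσp.symm)).ker))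
    {B : (SS).Modules} (hB : PicF.IsInvertible B) (q r : ℕ) (h0 : Subsingleton (Coh.HH SS B q))
    (hc : ∀ j, j < r → Subsingleton (Coh.HH C
      ((Scheme.Modules.pullback (pullback.lift (𝟙 C) σ ((Category.id_comp pC).trans hσp.symm))).obj
        (CohB1.tensorMod B (CohB1.tensorPow N (j + 1)))) q)) :
    Subsingleton (Coh.HH SS (CohB1.tensorMod B (CohB1.tensorPow N r)) q) := by
  letI := sqOver (k := k) (C := C)
  induction r with
  | zero => exact (isoK k (rightUnit B) q).toEquiv.subsingleton
  | succ r ih =>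
    have h1 := ih fun j hj => hc j (Nat.lt_succ_of_lt hj)
    set s := pullback.lift (𝟙 C) σ ((Category.id_comp pC).trans hσp.symm)
    obtain ⟨e⟩ := hNinv
    set M := CohB1.tensorMod B (CohB1.tensorPow N (r + 1))
    have hM : PicF.IsInvertible M := isInvertible_tensorMod hB (isInvertible_tensorPow hN _)
    have hS := Twist.twistSeq_shortExact hM (Groth.Agent.Lib.ClSub.Quot.idealSeq_shortExact s.ker)
    haveI : Subsingleton (Coh.HH SS (CohB1.tensorMod M (_root_.ClSub.idealMod s.ker)) q) :=
      (isoK k (assoc B (CohB1.tensorMod (CohB1.tensorPow N r) N) _ ≪≫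
        tensorIso (Iso.refl B) (assoc (CohB1.tensorPow N r) N _ ≪≫ tensorIso (Iso.refl _) e ≪≫
          rightUnit _)) q).toEquiv.subsingleton_congr.2 h1
    haveI := subsingleton_twist_quot hdim s (pullback.lift_fst _ _ _) hM q (hc r (Nat.lt_succ_self r))
    suffices h : Subsingleton (Coh.HH SS (CohB1.tensorMod M (Coh.structureModule SS)) q) from
      (isoK k (rightUnit M) q).symm.toEquiv.subsingleton
    refine ⟨fun a b => ?_⟩
    have hz : ∀ z : Coh.HH SS (CohB1.tensorMod M (Coh.structureModule SS)) q, z = 0 := fun z => by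
      obtain ⟨w, hw⟩ := (exactK₂ k hS q z).1 (Subsingleton.elim (α := Coh.HH SS (CohB1.tensorMod M (_root_.ClSub.quotMod s.ker)) q) _ _)
      rw [← hw, Subsingleton.elim (α := Coh.HH SS (CohB1.tensorMod M (_root_.ClSub.idealMod s.ker)) q) w 0]
      exact map_zero _
    rw [hz a, hz b]

include k in
theorem subsingleton_HH_two {M : C.Modules} (hM : PicF.IsInvertible M) (q : ℕ) (hq : 2 ≤ q) :
    Subsingleton (Coh.HH C M q) :=
  (Curves.Degree.isGood (k := k) hdim.le hM).vanish q hq

theorem subsingleton_two {σ : C ⟶ C} (hσp : σ ≫ pC = pC)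
    {N : (SS).Modules} (hN : PicF.IsInvertible N)
    (hNinv : _root_.ClSub.IsInverseOf N (_root_.ClSub.idealMod
      (pullback.lift (𝟙 C) σ ((Category.id_comp pC).trans hσp.symm)).ker))
    {F G : C.Modules} (hF : PicF.IsInvertible F) (hG : PicF.IsInvertible G)
    (hF1 : ∀ i, 1 ≤ i → Subsingleton (Coh.HH C F i)) (hG1 : ∀ i, 1 ≤ i → Subsingleton (Coh.HH C G i))
    (q r : ℕ) (hq : 2 ≤ q) :
    Subsingleton (Coh.HH SS (CohB1.tensorMod (box (k := k) F G) (CohB1.tensorPow N r)) q) := by
  have hB : PicF.IsInvertible (box (k := k) F G) :=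
    isInvertible_tensorMod (PicLoc.isInvertible_pullback _ hF) (PicLoc.isInvertible_pullback _ hG)
  refine subsingleton_twist hdim hσp hN hNinv hB q r ?_ fun j _ => subsingleton_HH_two (k := k) hdim
    (PicLoc.isInvertible_pullback _ (isInvertible_tensorMod hB (isInvertible_tensorPow hN _))) q hq
  exact subsingleton_box (k := k) hdim (TensorMod.QCohInv.isQCoh_of_isInvertible hF)
    (TensorMod.QCohInv.isQCoh_of_isInvertible hG) q fun a b hab => by
      rcases Nat.eq_zero_or_pos a with rfl | ha
      · exact Or.inr (hG1 b (by omega))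
      · exact Or.inl (hF1 a ha)

theorem subsingleton_one {σ : C ⟶ C} (hσσ : σ ≫ σ = 𝟙 C) (hσp : σ ≫ pC = pC)
    {N : (SS).Modules} (hN : PicF.IsInvertible N)
    (hNinv : _root_.ClSub.IsInverseOf N (_root_.ClSub.idealMod
      (pullback.lift (𝟙 C) σ ((Category.id_comp pC).trans hσp.symm)).ker))
    {F G : C.Modules} (hF : PicF.IsInvertible F) (hG : PicF.IsInvertible G)
    (hF1 : ∀ i, 1 ≤ i → Subsingleton (Coh.HH C F i)) (hG1 : ∀ i, 1 ≤ i → Subsingleton (Coh.HH C G i))
    (hg : 1 ≤ Curv2.genus k C) (r : ℕ)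
    (hr : ((Curv2.genus k C : ℤ) - 1) * (2 * r + 2) < Curv2.deg k C F 1 + Curv2.deg k C G 1) :
    Subsingleton (Coh.HH SS (CohB1.tensorMod (box (k := k) F G) (CohB1.tensorPow N r)) 1) := by
  haveI := isIntegral_C (k := k) hdim
  have hB : PicF.IsInvertible (box (k := k) F G) :=
    isInvertible_tensorMod (PicLoc.isInvertible_pullback _ hF) (PicLoc.isInvertible_pullback _ hG)
  refine subsingleton_twist hdim hσp hN hNinv hB 1 r ?_ fun j hj => ?_
  · exact subsingleton_box (k := k) hdim (TensorMod.QCohInv.isQCoh_of_isInvertible hF)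
      (TensorMod.QCohInv.isQCoh_of_isInvertible hG) 1 fun a b hab => by
        rcases Nat.eq_zero_or_pos a with rfl | ha
        · exact Or.inr (hG1 b (by omega))
        · exact Or.inl (hF1 a ha)
  · refine Groth.Agent.S1522.result k C hdim _
      (PicLoc.isInvertible_pullback _ (isInvertible_tensorMod hB (isInvertible_tensorPow hN _))) ?_
    rw [deg_graph hdim hσσ hσp hN hNinv hF hG]
    have h1 : (j : ℤ) + 1 ≤ r := by exact_mod_cast hj
    have h2 : (0 : ℤ) ≤ (Curv2.genus k C : ℤ) - 1 := by omega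
    push_cast
    nlinarith [mul_le_mul_of_nonneg_left h1 h2]

end Groth.Agent.Lib.HypSq96.Vanish
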