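import Groth.Agent.Lib.KunnethAD.Main
import Groth.Agent.Lib.IntTheory.BaseChange
import Groth.Agent.S7640
import Groth.Agent.S1522
import Groth.Agent.Lib.CurveFF.DoubleCover
import Groth.Agent.Lib.ProjCoh.Horrocks
import Groth.Agent.S4466
import Groth.Agent.Lib.SurfInt.CurvePos
import Groth.Agent.Lib.CurveBundle.SmoothField
import Groth.Agent.Lib.Ample.Pow
import Groth.Prelude.Def_FGA

/-!
# Box products of line bundles on the square of a curve
-/

set_option autoImplicit false
set_option linter.style.haveILetI false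
set_option linter.unusedSectionVars false
set_option maxHeartbeats 1000000
universe u

open CategoryTheory CategoryTheory.Limits AlgebraicGeometry TopologicalSpace
open scoped TensorProduct

namespace Groth.Agent.Lib.HypSq96.Basic

open Groth.Agent.Lib

variable {k : Type u} [Field k] [IsAlgClosed k] {C : Scheme.{u}} [C.Over (Spec (CommRingCat.of k))]
  [IsProper (C ↘ Spec (CommRingCat.of k))] [Smooth (C ↘ Spec (CommRingCat.of k))] [ConnectedSpace ↥C]
  (hdim : topologicalKrullDim ↥C = 1)

local notation "pC" => (C ↘ Spec (CommRingCat.of k))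

/-- `C ×_k C`. -/
noncomputable abbrev SQ : Scheme.{u} := pullback pC pC

/-- `C ×_k C` over `k`. -/
noncomputable abbrev sqOver : (SQ (k := k) (C := C)).Over (Spec (CommRingCat.of k)) :=
  ⟨pullback.fst pC pC ≫ pC⟩

/-- `p₁^*F ⊗ p₂^*G`. -/
noncomputable abbrev box (F G : C.Modules) : (SQ (k := k) (C := C)).Modules :=
  CohB1.tensorMod ((Scheme.Modules.pullback (pullback.fst pC pC)).obj F)
    ((Scheme.Modules.pullback (pullback.snd pC pC)).obj G)

include hdim

include k in
theorem isIntegral_C : IsIntegral C :=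
  CurveBundle.SmoothField.isIntegral k hdim.le

omit hdim in
theorem isInvertible_O1 : PicF.IsInvertible (Twist.twistProjSpace 1 k 1) :=
  ProjCoh.Horrocks.isInvertible_TS (d := 1) (k := k) 1

omit hdim in
theorem deg_twist :
    letI : (CohB1.ProjSpace 1 k).Over (Spec (CommRingCat.of k)) := ⟨CohB1.ProjSpace.toSpec 1 k⟩
    Curv2.deg k (CohB1.ProjSpace 1 k) (Twist.twistProjSpace 1 k 1) 1 = 1 := by
  letI : (CohB1.ProjSpace 1 k).Over (Spec (CommRingCat.of k)) := ⟨CohB1.ProjSpace.toSpec 1 k⟩
  haveI : IsProper (CohB1.ProjSpace 1 k ↘ Spec (CommRingCat.of k)) := ProjSpace.Basic.isProper_toSpec 1 k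
  have hd : topologicalKrullDim (CohB1.ProjSpace 1 k) ≤ 1 := by
    rw [ProjSpace.Dim.topologicalKrullDim_projSpace, ringKrullDim_eq_zero_of_field]; simp
  have h0 := Curves.GlobalSections.finrank_h0_structure k (CohB1.ProjSpace 1 k)
  have h := Groth.Agent.S4466.result k 1 one_pos 1
  simp only [Finset.sum_range_succ, Finset.sum_range_zero, zero_add, pow_zero, one_mul, pow_one,
    Nat.cast_one, Ring.choose_one_right] at h
  rw [Curves.Degree.deg_eq, Curves.Euler.euler_eq (Curves.Degree.isGood (k := k) hd isInvertible_O1).vanish,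
    Curves.Euler.euler_eq (Curves.Degree.isGood_structureModule (k := k) hd).vanish]
  haveI : Subsingleton (Coh.HH (CohB1.ProjSpace 1 k) (Twist.twistProjSpace 1 k 1) 1) :=
    ProjCoh.Twist.subsingleton_HH_of_neg_le 1 k (d := 1) (by norm_num) one_ne_zero
  haveI : Subsingleton (Coh.HH (CohB1.ProjSpace 1 k) (Coh.structureModule (CohB1.ProjSpace 1 k)) 1) :=
    ProjCoh.Twist.subsingleton_HH_structureModule 1 k one_ne_zero
  have e1 : Module.finrank k (Coh.HH (CohB1.ProjSpace 1 k) (Twist.twistProjSpace 1 k 1) 1) = 0 :=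
    Module.finrank_zero_of_subsingleton
  have e2 : Module.finrank k (Coh.HH (CohB1.ProjSpace 1 k) (Coh.structureModule (CohB1.ProjSpace 1 k)) 1) = 0 :=
    Module.finrank_zero_of_subsingleton
  simp only [Curves.Euler.hdim, h0, e1, e2] at h ⊢
  omega

theorem deg_pullback (κ : C ⟶ CohB1.ProjSpace 1 k) (hκ : κ ≫ CohB1.ProjSpace.toSpec 1 k = pC)
    [IsFinite κ] [Flat κ] (hκ2 : ∀ y : ↥(CohB1.ProjSpace 1 k), κ.finrank y = 2) :
    Curv2.deg k C ((Scheme.Modules.pullback κ).obj (Twist.twistProjSpace 1 k 1)) 1 = 2 := by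
  haveI := isIntegral_C (k := k) hdim
  letI : (CohB1.ProjSpace 1 k).Over (Spec (CommRingCat.of k)) := ⟨CohB1.ProjSpace.toSpec 1 k⟩
  haveI : IsProper (CohB1.ProjSpace 1 k ↘ Spec (CommRingCat.of k)) := ProjSpace.Basic.isProper_toSpec 1 k
  have hη := CurveFF.DoubleCover.generic_eq κ hdim
  haveI : IsIntegral (CohB1.ProjSpace 1 k) := inferInstance
  have hP : topologicalKrullDim (CohB1.ProjSpace 1 k) = 1 := by
    rw [ProjSpace.Dim.topologicalKrullDim_projSpace 1 k, ringKrullDim_eq_zero_of_field]
    simp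
  have h := Groth.Agent.S7640.result k C (CohB1.ProjSpace 1 k) hdim hP κ hκ hη 1
    (Twist.twistProjSpace 1 k 1) (TensorMod.LocFree.of_isInvertible isInvertible_O1)
  rw [h, deg_twist, ← CurveFF.DoubleCover.finrank_eq κ hη (genericPoint _), hκ2]
  norm_num

theorem deg_pullback_pow (κ : C ⟶ CohB1.ProjSpace 1 k) (hκ : κ ≫ CohB1.ProjSpace.toSpec 1 k = pC)
    [IsFinite κ] [Flat κ] (hκ2 : ∀ y : ↥(CohB1.ProjSpace 1 k), κ.finrank y = 2) (m : ℕ) :
    Curv2.deg k C (CohB1.tensorPow ((Scheme.Modules.pullback κ).obj (Twist.twistProjSpace 1 k 1)) m) 1 =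
      2 * m := by
  haveI := isIntegral_C (k := k) hdim
  rw [SurfInt.CurvePos.deg_tensorPow hdim.le (PicLoc.isInvertible_pullback κ (isInvertible_O1)) m,
    deg_pullback hdim κ hκ hκ2]
  ring

theorem subsingleton_pow (κ : C ⟶ CohB1.ProjSpace 1 k) (hκ : κ ≫ CohB1.ProjSpace.toSpec 1 k = pC)
    [IsFinite κ] [Flat κ] (hκ2 : ∀ y : ↥(CohB1.ProjSpace 1 k), κ.finrank y = 2) {m : ℕ}
    (hm : Curv2.genus k C ≤ m) (i : ℕ) (hi : 1 ≤ i) :
    Subsingleton (Coh.HH C
      (CohB1.tensorPow ((Scheme.Modules.pullback κ).obj (Twist.twistProjSpace 1 k 1)) m) i) := by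
  haveI := isIntegral_C (k := k) hdim
  have hL := TensorMod.Invertible.isInvertible_tensorPow
    (PicLoc.isInvertible_pullback κ (isInvertible_O1)) m
  rcases Nat.lt_or_ge i 2 with h | h
  · obtain rfl : i = 1 := by omega
    refine Groth.Agent.S1522.result k C hdim _ hL ?_
    rw [deg_pullback_pow hdim κ hκ hκ2]
    omega
  · exact (Curves.Degree.isGood (k := k) hdim.le hL).vanish i h

theorem nonempty_kunneth {F G : C.Modules} (hF : Coh.IsQCoh F) (hG : Coh.IsQCoh G) (n : ℕ) :
    letI := sqOver (k := k) (C := C)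
    Nonempty ((Π p : Fin (n + 1), Coh.HH C F (p : ℕ) ⊗[k] Coh.HH C G (n - (p : ℕ))) ≃ₗ[k]
      Coh.HH (SQ (k := k) (C := C)) (box (k := k) F G) n) := by
  classical
  haveI := hF
  haveI := hG
  letI := sqOver (k := k) (C := C)
  haveI : CompactSpace ↥C := QuasiCompact.compactSpace_of_compactSpace pC
  obtain ⟨e⟩ := KunnethAD.nonempty_kunneth_linear k C C F G
    (IntTheory.BaseChange.isFlatOver (k := k) _) (fun _ => inferInstance) n
  let σ : Fin (n + 1) ≃ ↥(Finset.HasAntidiagonal.antidiagonal n) :=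
    { toFun := fun p => ⟨((p : ℕ), n - (p : ℕ)), Finset.HasAntidiagonal.mem_antidiagonal.2 (by omega)⟩
      invFun := fun pq => ⟨pq.1.1, by have := Finset.HasAntidiagonal.mem_antidiagonal.1 pq.2; omega⟩
      left_inv := fun p => rfl
      right_inv := fun pq => by
        have := Finset.HasAntidiagonal.mem_antidiagonal.1 pq.2
        apply Subtype.ext
        exact Prod.ext rfl (by simp only; omega) }
  exact ⟨(LinearEquiv.piCongrLeft k (fun pq : ↥(Finset.HasAntidiagonal.antidiagonal n) =>
      TensorProduct k (Coh.HH C F pq.1.1) (Coh.HH C G pq.1.2)) σ).trans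
    ((DirectSum.linearEquivFunOnFintype k _ _).symm.trans e.symm)⟩

theorem finrank_box {F G : C.Modules} (hF : Coh.IsQCoh F) (hG : Coh.IsQCoh G) (n : ℕ) :
    letI := sqOver (k := k) (C := C)
    Module.finrank k (Coh.HH (SQ (k := k) (C := C)) (box (k := k) F G) n) =
      Module.finrank k (Π p : Fin (n + 1), Coh.HH C F (p : ℕ) ⊗[k] Coh.HH C G (n - (p : ℕ))) := by
  letI := sqOver (k := k) (C := C)
  haveI : CompactSpace ↥C := QuasiCompact.compactSpace_of_compactSpace pC
  obtain ⟨e⟩ := nonempty_kunneth (k := k) hdim hF hG n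
  exact e.finrank_eq.symm

theorem subsingleton_box {F G : C.Modules} (hF : Coh.IsQCoh F) (hG : Coh.IsQCoh G) (n : ℕ)
    (h : ∀ a b : ℕ, a + b = n → Subsingleton (Coh.HH C F a) ∨ Subsingleton (Coh.HH C G b)) :
    Subsingleton (Coh.HH (SQ (k := k) (C := C)) (box (k := k) F G) n) := by
  letI := sqOver (k := k) (C := C)
  haveI : CompactSpace ↥C := QuasiCompact.compactSpace_of_compactSpace pC
  obtain ⟨e⟩ := nonempty_kunneth (k := k) hdim hF hG n
  haveI : ∀ p : Fin (n + 1), Subsingleton (Coh.HH C F (p : ℕ) ⊗[k] Coh.HH C G (n - (p : ℕ))) := fun p => by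
    rcases h p.1 (n - p.1) (by omega) with h' | h'
    · exact ⟨fun x y => by
        have : ∀ z : Coh.HH C F (p : ℕ) ⊗[k] Coh.HH C G (n - (p : ℕ)), z = 0 := fun z => by
          induction z using TensorProduct.induction_on with
          | zero => rfl
          | tmul a b => rw [Subsingleton.elim a 0, TensorProduct.zero_tmul]
          | add a b ha hb => rw [ha, hb, add_zero]
        rw [this x, this y]⟩
    · exact ⟨fun x y => by
        have : ∀ z : Coh.HH C F (p : ℕ) ⊗[k] Coh.HH C G (n - (p : ℕ)), z = 0 := fun z => by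
          induction z using TensorProduct.induction_on with
          | zero => rfl
          | tmul a b => rw [Subsingleton.elim b 0, TensorProduct.tmul_zero]
          | add a b ha hb => rw [ha, hb, add_zero]
        rw [this x, this y]⟩
  exact e.symm.toEquiv.subsingleton

theorem finrank_box_eq {F G : C.Modules} (hF : Coh.IsCoh F) (hG : Coh.IsCoh G) (n : ℕ) :
    letI := sqOver (k := k) (C := C)
    Module.finrank k (Coh.HH (SQ (k := k) (C := C)) (box (k := k) F G) n) =
      ∑ p : Fin (n + 1), Module.finrank k (Coh.HH C F (p : ℕ)) *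
        Module.finrank k (Coh.HH C G (n - (p : ℕ))) := by
  letI := sqOver (k := k) (C := C)
  haveI : ∀ i, FiniteDimensional k (Coh.HH C F i) := fun i => by
    rcases Nat.lt_or_ge i 2 with h | h
    · interval_cases i
      · exact (Curves.Finiteness.isGood_of_isCoh hdim.le hF).fin₀
      · exact (Curves.Finiteness.isGood_of_isCoh hdim.le hF).fin₁
    · haveI := (Curves.Finiteness.isGood_of_isCoh (k := k) hdim.le hF).vanish i h
      infer_instance
  haveI : ∀ i, FiniteDimensional k (Coh.HH C G i) := fun i => by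
    rcases Nat.lt_or_ge i 2 with h | h
    · interval_cases i
      · exact (Curves.Finiteness.isGood_of_isCoh hdim.le hG).fin₀
      · exact (Curves.Finiteness.isGood_of_isCoh hdim.le hG).fin₁
    · haveI := (Curves.Finiteness.isGood_of_isCoh (k := k) hdim.le hG).vanish i h
      infer_instance
  rw [finrank_box (k := k) hdim hF.1 hG.1 n, Module.finrank_pi_fintype]
  exact Finset.sum_congr rfl fun p _ => Module.finrank_tensorProduct

theorem euler_box {F G : C.Modules} (hF : Coh.IsCoh F) (hG : Coh.IsCoh G) :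
    letI := sqOver (k := k) (C := C)
    FGA.eulerCharLE k (SQ (k := k) (C := C)) (box (k := k) F G) 2 =
      Curv2.euler k C F * Curv2.euler k C G := by
  letI := sqOver (k := k) (C := C)
  have gF := Curves.Finiteness.isGood_of_isCoh (k := k) hdim.le hF
  have gG := Curves.Finiteness.isGood_of_isCoh (k := k) hdim.le hG
  have eF : Module.finrank k (Coh.HH C F 2) = 0 := by
    haveI := gF.vanish 2 le_rfl
    exact Module.finrank_zero_of_subsingleton
  have eG : Module.finrank k (Coh.HH C G 2) = 0 := by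
    haveI := gG.vanish 2 le_rfl
    exact Module.finrank_zero_of_subsingleton
  unfold FGA.eulerCharLE
  rw [Curves.Euler.euler_eq gF.vanish, Curves.Euler.euler_eq gG.vanish]
  simp only [Finset.sum_range_succ, Finset.sum_range_zero, zero_add, finrank_box_eq (k := k) hdim hF hG,
    Fin.sum_univ_succ, Fin.sum_univ_zero, Curves.Euler.hdim]
  simp [eF, eG]
  ring

end Groth.Agent.Lib.HypSq96.Basic
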