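import Groth.Agent.Lib.HypSq96.Surf
import Groth.Agent.Lib.CurveFF.TwistDiv
import Groth.Agent.Lib.CurveFF.DoublePowers
import Groth.Agent.Lib.CurveFF.SmoothBC
import Groth.Agent.Lib.CurveFF.DoubleCover
import Groth.Agent.H81.DoubleCover
import Groth.Agent.Lib.Ample.Pow
import Groth.Agent.Lib.Curves.GlobalSections

/-!
# Powers of the hyperelliptic pencil and the normal module of the graph of the involution
-/

noncomputable section
set_option autoImplicit false
set_option linter.style.haveILetI false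
set_option linter.unusedSectionVars false
set_option maxHeartbeats 1000000
universe u

open CategoryTheory CategoryTheory.Limits AlgebraicGeometry TopologicalSpace

namespace Groth.Agent.Lib.HypSq96.Canon

attribute [local instance] Curv2.stalkAlgebra

open Groth.Agent.Lib Groth.Agent.Lib.HypSq96.Basic Groth.Agent.Lib.HypSq96.Table
open Groth.Agent.Lib.TensorMod.Basic (comm assoc tensorIso leftUnit rightUnit)
open Groth.Agent.Lib.TensorMod.Invertible (isInvertible_tensorPow isInvertible_tensorMod)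
open Groth.Agent.Lib.Ample.Pow (powIso powAdd powCongr powMul powTensor powUnit pullbackPow)

variable {k : Type u} [Field k] [IsAlgClosed k] {C : Scheme.{u}} [C.Over (Spec (CommRingCat.of k))]
  [IsProper (C ↘ Spec (CommRingCat.of k))] [Smooth (C ↘ Spec (CommRingCat.of k))] [ConnectedSpace ↥C]
  (hdim : topologicalKrullDim ↥C = 1)
  (κ : C ⟶ CohB1.ProjSpace 1 k) (hκ : κ ≫ CohB1.ProjSpace.toSpec 1 k = (C ↘ Spec (CommRingCat.of k)))
  [IsFinite κ] [Flat κ] (hκ2 : ∀ y : ↥(CohB1.ProjSpace 1 k), κ.finrank y = 2)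

local notation "pC" => (C ↘ Spec (CommRingCat.of k))
local notation "SS" => pullback pC pC
set_option quotPrecheck false in
local notation "LL" => ((Scheme.Modules.pullback κ).obj (Twist.twistProjSpace 1 k 1))

include hdim hκ hκ2

theorem finrank_h0_pow {n : ℕ} (hn : n + 1 ≤ Curv2.genus k C) :
    Module.finrank k (Coh.HH C (CohB1.tensorPow LL n) 0) = n + 1 := by
  haveI := isIntegral_C (k := k) hdim
  have h := CurveFF.curveHyp_of_smooth k hdim
  have hO := Curves.GlobalSections.finrank_h0_structure k C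
  have hK := CurveFF.isFunctionField (k := k) h hO
  have hη := CurveFF.DoubleCover.generic_eq κ hdim
  have hm := CurveFF.DoubleCover.generic_mem κ hη 0
  obtain ⟨hd, -⟩ := CurveFF.DoubleCover.degree_transfer κ hκ hm
  rw [← CurveFF.DoubleCover.finrank_eq κ hη (genericPoint (CohB1.ProjSpace 1 k)), hκ2] at hd
  have ht := H81.DoubleCover.transcendental_of_finrank hK hd
  obtain ⟨R⟩ := CurveFF.LineDiv.nonempty_rep (PicLoc.isInvertible_pullback κ (isInvertible_O1 (k := k)))
  obtain ⟨a, ha, hR⟩ := CurveFF.TwistDiv.exists_pullback_div h hK κ hη R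
  let T := CurveFF.LineDiv.trivRep (PicLoc.isInvertible_structureModule C)
  have hT : T.div (k := k) h hK = 0 := by
    ext Q
    obtain ⟨y, rfl⟩ := CurveFF.placeOf_surjective (k := k) h Q
    rw [CurveFF.LineDiv.Rep.div_placeOf, CurveFF.LineDiv.trivRep_e]
    rfl
  have hpow : ∀ m : ℕ, ∃ U : CurveFF.LineDiv.Rep (CohB1.tensorPow LL m),
      U.div h hK = (m : ℤ) • R.div h hK := by
    intro m
    induction m with
    | zero => exact ⟨T, hT.trans (by rw [Nat.cast_zero, zero_smul])⟩
    | succ m ih =>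
      obtain ⟨U, hU⟩ := ih
      exact ⟨U.mul R, (U.div_mul h hK R).trans
        (by rw [hU, Nat.cast_succ, add_smul, one_smul])⟩
  obtain ⟨U, hU⟩ := hpow n
  have hdiv : (n : ℤ) • _root_.FunFld.div k a = _root_.FunFld.div k (a ^ n) := by
    ext P
    rw [Finsupp.smul_apply, smul_eq_mul, FunFld.Degree.div_apply hK, FunFld.Degree.div_apply hK,
      FunFld.Place.ord_pow]
  rw [U.finrank_h0 h hK, hU, hR, smul_add, hdiv, FunFld.Riemann.ell_add_div hK _ (pow_ne_zero n ha)]
  exact CurveFF.DoublePowers.ell_smul_poleDiv hK ht hd (by rw [← CurveFF.genus_eq h hO]; exact hn)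

theorem nonempty_iso_omega (hg : 1 ≤ Curv2.genus k C) :
    Nonempty (CohB1.tensorPow LL (Curv2.genus k C - 1) ≅ Omega.sheaf pC) := by
  haveI := isIntegral_C (k := k) hdim
  refine CurveFF.SmoothBC.iso_omega hdim (Curves.GlobalSections.finrank_h0_structure k C)
    (isInvertible_tensorPow (PicLoc.isInvertible_pullback κ isInvertible_O1) _) ?_ ?_
  · rw [deg_pullback_pow hdim κ hκ hκ2]
    omega
  · rw [finrank_h0_pow hdim κ hκ hκ2 (n := Curv2.genus k C - 1) (by omega)]
    omega

theorem nonempty_graph_iso {σ : C ⟶ C} (hσ : σ ≫ κ = κ) (hσσ : σ ≫ σ = 𝟙 C) (hσp : σ ≫ pC = pC)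
    {N : (SS).Modules} (hN : PicF.IsInvertible N)
    (hNinv : _root_.ClSub.IsInverseOf N (_root_.ClSub.idealMod
      (pullback.lift (𝟙 C) σ ((Category.id_comp pC).trans hσp.symm)).ker))
    (hg : 1 ≤ Curv2.genus k C) (m r s : ℕ)
    (hs : (s : ℤ) = 2 * (m : ℤ) - ((Curv2.genus k C : ℤ) - 1) * r) :
    Nonempty ((Scheme.Modules.pullback (pullback.lift (𝟙 C) σ ((Category.id_comp pC).trans hσp.symm))).obj
        (CohB1.tensorMod (box (k := k) (CohB1.tensorPow LL m) (CohB1.tensorPow LL m))
          (CohB1.tensorPow N r)) ≅ CohB1.tensorPow LL s) := by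
  obtain ⟨eω⟩ := nonempty_iso_omega hdim κ hκ hκ2 hg
  obtain ⟨ec⟩ := Surf.nonempty_conormal_graph (k := k) hdim hσσ hσp
  obtain ⟨e⟩ := hNinv
  set t := pullback.lift (𝟙 C) σ ((Category.id_comp pC).trans hσp.symm)
  set γ := Curv2.genus k C - 1
  have hmn : 2 * m = s + γ * r := by
    have : ((2 * m : ℕ) : ℤ) = ((s + γ * r : ℕ) : ℤ) := by
      push_cast [γ, Nat.cast_sub hg]
      linarith
    exact_mod_cast this
  let NN := (Scheme.Modules.pullback t).obj N
  let eN : CohB1.tensorMod (CohB1.tensorPow LL γ) NN ≅ Coh.structureModule C :=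
    tensorIso (eω ≪≫ ec.symm) (Iso.refl _) ≪≫ comm _ _ ≪≫
      (TensorMod.Pullback.pullbackTensorIso t _ _).symm ≪≫ (Scheme.Modules.pullback t).mapIso e ≪≫
      PicLoc.pullbackStructureIso t
  let e1 : (Scheme.Modules.pullback t).obj ((Scheme.Modules.pullback (pullback.fst pC pC)).obj
      (CohB1.tensorPow LL m)) ≅ CohB1.tensorPow LL m :=
    (Scheme.Modules.pullbackComp t (pullback.fst pC pC)).app _ ≪≫
      (Scheme.Modules.pullbackCongr (pullback.lift_fst _ _ _)).app _ ≪≫
      (Scheme.Modules.pullbackId C).app _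
  let e2 : (Scheme.Modules.pullback t).obj ((Scheme.Modules.pullback (pullback.snd pC pC)).obj
      (CohB1.tensorPow LL m)) ≅ CohB1.tensorPow LL m :=
    (Scheme.Modules.pullbackComp t (pullback.snd pC pC)).app _ ≪≫
      (Scheme.Modules.pullbackCongr (pullback.lift_snd _ _ _)).app _ ≪≫ pullbackPow σ LL m ≪≫
      powIso ((Scheme.Modules.pullbackComp σ κ).app _ ≪≫ (Scheme.Modules.pullbackCongr hσ).app _) m
  exact ⟨TensorMod.Pullback.pullbackTensorIso t _ _ ≪≫
    tensorIso (TensorMod.Pullback.pullbackTensorIso t _ _ ≪≫ tensorIso e1 e2 ≪≫ (powAdd LL m m).symm ≪≫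
        powCongr LL (show m + m = s + γ * r by omega) ≪≫ powAdd LL s (γ * r)) (pullbackPow t N r) ≪≫
      assoc _ _ _ ≪≫ tensorIso (Iso.refl _)
        (tensorIso (powMul LL γ r).symm (Iso.refl _) ≪≫ (powTensor _ NN r).symm ≪≫ powIso eN r ≪≫
          powUnit C r) ≪≫ rightUnit _⟩

end Groth.Agent.Lib.HypSq96.Canon
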