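import Groth.Agent.Lib.Ample.GenLocus
import Groth.Agent.H90.ConnFun
import Groth.Prelude.Def_SGA1

/-!
# Descent of trivial line bundles along a quotient by an involution with a fixed point
-/

noncomputable section

set_option autoImplicit false
set_option linter.style.haveILetI false
set_option maxHeartbeats 1000000
universe u

open CategoryTheory CategoryTheory.Limits AlgebraicGeometry Opposite TopologicalSpace
open Groth.Agent.Lib Groth.Agent.Lib.TensorMod Groth.Agent.Lib.TensorMod.Dual Groth.Agent.Lib.TensorMod.Gen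
  Groth.Agent.Lib.TensorMod.HomGlue Groth.Agent.Lib.TensorMod.Pullback Groth.Agent.Lib.Ample.GenLocus

namespace Groth.Agent.Lib.HypSq96.Descent

variable {X Y D : Scheme.{u}} (π : X ⟶ Y) {σ : X ⟶ X} (hσ : σ ≫ π = π)

include hσ in
theorem preimage_le (U : Y.Opens) : π ⁻¹ᵁ U ≤ σ ⁻¹ᵁ (π ⁻¹ᵁ U) := by
  rw [← Scheme.Hom.comp_preimage, hσ]

/-- The action of the involution on functions over a saturated open. -/
def act (U : Y.Opens) : Γ(X, π ⁻¹ᵁ U) →+* Γ(X, π ⁻¹ᵁ U) :=
  (σ.appLE (π ⁻¹ᵁ U) (π ⁻¹ᵁ U) (preimage_le π hσ U)).hom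

theorem act_app (U : Y.Opens) (b : Γ(Y, U)) : act π hσ U ((π.app U).hom b) = (π.app U).hom b := by
  have h : ∀ (f : X ⟶ Y) (_ : f = π) (h1 : π ⁻¹ᵁ U ≤ f ⁻¹ᵁ U),
      (f.appLE U (π ⁻¹ᵁ U) h1).hom b = (π.app U).hom b := by
    rintro f rfl h1
    rw [Scheme.Hom.appLE_eq_app]
  have h2 := h (σ ≫ π) hσ (by rw [hσ])
  rw [← Scheme.Hom.appLE_comp_appLE σ π U (π ⁻¹ᵁ U) (π ⁻¹ᵁ U) le_rfl (preimage_le π hσ U),
    Scheme.Hom.appLE_eq_app] at h2
  exact h2

theorem act_rf {U V : Y.Opens} (h : V ≤ U) (a : Γ(X, π ⁻¹ᵁ U)) :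
    rf (π.preimage_mono h) (act π hσ U a) = act π hσ V (rf (π.preimage_mono h) a) := by
  simp only [act, rf]
  rw [← CommRingCat.comp_apply, ← CommRingCat.comp_apply, Scheme.Hom.appLE_map, Scheme.Hom.map_appLE]

variable {k : Type u} [Field k] [IsAlgClosed k]

include hσ in
/-- An invertible module whose pullback along the quotient is trivial is trivial. -/
theorem nonempty_iso (hinj : ∀ U : Y.Opens, Function.Injective (π.app U).hom)
    (hrange : ∀ (U : Y.Opens) (s : Γ(X, π ⁻¹ᵁ U)), act π hσ U s = s → s ∈ Set.range (π.app U).hom)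
    (f : X ⟶ Spec (CommRingCat.of k)) [UniversallyClosed f] [IsReduced X] [ConnectedSpace X]
    (d : D ⟶ X) (hd : d ≫ σ = d) [Nonempty D]
    {M : Y.Modules} (hM : PicF.IsInvertible M)
    (ε : (Scheme.Modules.pullback π).obj M ≅ Coh.structureModule X) :
    Nonempty (M ≅ Coh.structureModule Y) := by
  classical
  choose U e hy he using isInvertible_iff.1 hM
  have hcov : iSup U = ⊤ := top_le_iff.1 fun y _ => Opens.mem_iSup.2 ⟨y, hy y⟩
  let T : ∀ V : X.Opens, Γ((Scheme.Modules.pullback π).obj M, V) := fun V => sv ε.inv V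
  have hTg : ∀ V, IsGen ((Scheme.Modules.pullback π).obj M) V (T V) := fun V =>
    isGen_of_isIso_over (isIso_over_of_iso ε.symm V) (isGen_one V)
  have hPg : ∀ y, IsGen ((Scheme.Modules.pullback π).obj M) (π ⁻¹ᵁ U y) (unitSec π M (e y)) := fun y =>
    isGen_unitSec π (he y)
  have hu : ∀ y, ∃ u, u • unitSec π M (e y) = T (π ⁻¹ᵁ U y) := fun y => by
    obtain ⟨u, hu⟩ := (hPg y _ le_rfl).2 (T (π ⁻¹ᵁ U y))
    exact ⟨u, by simpa [rs_self] using hu⟩
  choose u hu using hu
  have hw : ∀ y, ∃ w, u y * w = 1 := fun y => by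
    obtain ⟨w, hw⟩ := (hTg _ _ le_rfl).2 (unitSec π M (e y))
    simp only [rs_self] at hw
    refine ⟨w, (hPg y _ le_rfl).1 ?_⟩
    simp only [rs_self, one_smul]
    rw [mul_comm, mul_smul, hu, hw]
  choose w hw using hw
  let c : ∀ y, Γ(X, π ⁻¹ᵁ U y) := fun y => act π hσ (U y) (u y) * w y
  -- values on a smaller open
  have hres : ∀ (y : Y) (W : Y.Opens) (h : W ≤ U y),
      rf (π.preimage_mono h) (u y) • unitSec π M (rs M h (e y)) = T (π ⁻¹ᵁ W) := fun y W h => by
    rw [← unitSec_rs π h (e y), ← rs_smul, hu]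
    exact rs_sv ε.inv _
  have hcompat : ∀ i j, ∀ (W : Y.Opens) (hi : W ≤ U i) (hj : W ≤ U j),
      rf (π.preimage_mono hi) (c i) = rf (π.preimage_mono hj) (c j) := fun i j W hi hj => by
    obtain ⟨g, hg⟩ := (he j W hj).2 (rs M hi (e i))
    simp only at hg
    have h1 : rf (π.preimage_mono hi) (u i) * (π.app W).hom g = rf (π.preimage_mono hj) (u j) := by
      refine ((hPg j).res (π.preimage_mono hj) _ le_rfl).1 ?_
      simp only [rs_self]
      rw [unitSec_rs π hj (e j), mul_smul, ← unitSec_smul, hg, hres, hres]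
    have hwi : rf (π.preimage_mono hi) (u i) * rf (π.preimage_mono hi) (w i) = 1 := by
      rw [rf, rf, ← map_mul, hw, map_one]
    have hwj : rf (π.preimage_mono hj) (u j) * rf (π.preimage_mono hj) (w j) = 1 := by
      rw [rf, rf, ← map_mul, hw, map_one]
    have key : ∀ {R : Type u} [CommRing R] {ai aj ui uj wi wj g' : R}, ai * g' = aj → ui * g' = uj →
        ui * wi = 1 → uj * wj = 1 → ai * wi = aj * wj := by
      intro R _ ai aj ui uj wi wj g' e1 e2 e3 e4
      calc ai * wi = ai * wi * (uj * wj) := by rw [e4, mul_one]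
        _ = ai * wi * (ui * g' * wj) := by rw [e2]
        _ = ai * g' * wj * (ui * wi) := by ring
        _ = aj * wj := by rw [e3, mul_one, e1]
    have e1 : rf (π.preimage_mono hi) (act π hσ (U i) (u i)) * (π.app W).hom g =
        rf (π.preimage_mono hj) (act π hσ (U j) (u j)) := by
      rw [act_rf π hσ hi, act_rf π hσ hj]
      have h3 := congrArg (act π hσ W) h1
      rwa [map_mul, act_app] at h3
    show rf _ (act π hσ (U i) (u i) * w i) = rf _ (act π hσ (U j) (u j) * w j)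
    exact (map_mul _ _ _).trans ((key e1 h1 hwi hwj).trans (map_mul _ _ _).symm)
  obtain ⟨cg, hcg, -⟩ := TopCat.Sheaf.existsUnique_gluing' X.sheaf (fun y => π ⁻¹ᵁ U y) ⊤
    (fun y => homOfLE le_top) (fun x _ => Opens.mem_iSup.2 ⟨π x, hy (π x)⟩) c
    (fun i j => hcompat i j (U i ⊓ U j) inf_le_left inf_le_right)
  obtain ⟨a, ha⟩ := H90.ConnFun.appTop_surjective k f cg
  -- evaluate at a fixed point
  let z : D := Classical.arbitrary D
  let y₀ : Y := π (d z)
  let V : D.Opens := d ⁻¹ᵁ (π ⁻¹ᵁ U y₀)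
  have hzV : z ∈ V := hy y₀
  haveI : Nonempty V := ⟨⟨z, hzV⟩⟩
  have hdact : (d.appLE (π ⁻¹ᵁ U y₀) V le_rfl).hom (act π hσ (U y₀) (u y₀)) =
      (d.appLE (π ⁻¹ᵁ U y₀) V le_rfl).hom (u y₀) := by
    have h : ∀ (g : D ⟶ X) (_ : g = d) (h1 : V ≤ g ⁻¹ᵁ (π ⁻¹ᵁ U y₀)),
        (g.appLE (π ⁻¹ᵁ U y₀) V h1).hom (u y₀) = (d.appLE (π ⁻¹ᵁ U y₀) V le_rfl).hom (u y₀) := by
      rintro g rfl h1
      rfl
    simp only [act]
    rw [← CommRingCat.comp_apply, Scheme.Hom.appLE_comp_appLE]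
    exact h _ hd _
  let φ : k →+* Γ(D, V) := (d.appLE (π ⁻¹ᵁ U y₀) V le_rfl).hom.comp
    ((X.presheaf.map (homOfLE (le_top : π ⁻¹ᵁ U y₀ ≤ ⊤)).op).hom.comp
      ((Scheme.ΓSpecIso (CommRingCat.of k)).inv ≫ f.appTop).hom)
  have hφ : φ a = φ 1 := by
    rw [map_one]
    show (d.appLE (π ⁻¹ᵁ U y₀) V le_rfl).hom ((X.presheaf.map (homOfLE (le_top : π ⁻¹ᵁ U y₀ ≤ ⊤)).op).hom
      (((Scheme.ΓSpecIso (CommRingCat.of k)).inv ≫ f.appTop).hom a)) = 1
    rw [ha]
    refine (congrArg _ (hcg y₀)).trans ?_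
    show (d.appLE (π ⁻¹ᵁ U y₀) V le_rfl).hom (_ * _) = 1
    rw [map_mul, hdact, ← map_mul, hw, map_one]
  obtain rfl : a = 1 := φ.injective hφ
  rw [map_one] at ha
  have hfix : ∀ y, act π hσ (U y) (u y) = u y := fun y => by
    have h := hcg y
    rw [← ha] at h
    have h1 : (1 : Γ(X, π ⁻¹ᵁ U y)) = c y := (map_one (X.presheaf.map (homOfLE le_top).op).hom).symm.trans h
    have h2 : act π hσ (U y) (u y) * w y = 1 := h1.symm
    linear_combination (u y) * h2 + (-(act π hσ (U y) (u y))) * hw y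
  have hfixw : ∀ y, act π hσ (U y) (w y) = w y := fun y => by
    have h := congrArg (act π hσ (U y)) (hw y)
    rw [map_mul, map_one, hfix] at h
    linear_combination (w y) * h + (-(act π hσ (U y) (w y))) * hw y
  choose b hb using fun y => hrange (U y) _ (hfix y)
  choose b' hb' using fun y => hrange (U y) _ (hfixw y)
  have hbb : ∀ y, b y * b' y = 1 := fun y => hinj (U y) (by rw [map_mul, map_one, hb, hb', hw])
  have hm : ∀ y, IsGen M (U y) (b y • e y) := fun y W hW => by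
    have hu1 : IsUnit (rf hW (b y)) := (IsUnit.of_mul_eq_one _ (hbb y)).map _
    have : (fun a : Γ(Y, W) => a • rs M hW (b y • e y)) =
        (fun a : Γ(Y, W) => a • rs M hW (e y)) ∘ (fun a => a * rf hW (b y)) := funext fun a => by
      simp only [Function.comp_apply, rs_smul, mul_smul]
    rw [this]
    exact (he y W hW).comp (IsUnit.isUnit_iff_mulRight_bijective.1 hu1)
  have hT : ∀ (y : Y) (W : Y.Opens) (h : W ≤ U y),
      unitSec π M (rs M h (b y • e y)) = T (π ⁻¹ᵁ W) := fun y W h => by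
    rw [← unitSec_rs π h, unitSec_smul, hb, hu]
    exact rs_sv ε.inv _
  obtain ⟨φ', -⟩ := HomGlue.exists_iso_of_gen hcov (fun y => b y • e y) hm (fun y => one Y (U y))
    (fun y => isGen_one (U y)) fun i j W hi hj cc hcc => by
      have h := congrArg (unitSec π M) hcc
      rw [unitSec_smul, hT, hT] at h
      have h1 : (π.app W).hom cc = 1 := (hTg (π ⁻¹ᵁ W) _ le_rfl).1 (by
        simpa [rs_self] using h.symm)
      obtain rfl : cc = 1 := hinj W (h1.trans (map_one _).symm)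
      rw [one_smul]
      exact (map_one (Y.presheaf.map (homOfLE hi).op).hom).trans
        (map_one (Y.presheaf.map (homOfLE hj).op).hom).symm
  exact ⟨φ'⟩

end Groth.Agent.Lib.HypSq96.Descent
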