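import Groth.Agent.Lib.HypSq96.Vanish

/-!
# Sections do not grow past a negative degree on the graph
-/

set_option autoImplicit false
set_option linter.style.haveILetI false
set_option linter.unusedSectionVars false
set_option maxHeartbeats 1000000
universe u

open CategoryTheory CategoryTheory.Limits AlgebraicGeometry TopologicalSpace

namespace Groth.Agent.Lib.HypSq96.Drop

open Groth.Agent.Lib Groth.Agent.Lib.HypSq96.Basic Groth.Agent.Lib.HypSq96.Table Groth.Agent.Lib.Snapper
open Groth.Agent.Lib.TensorMod.Basic (comm assoc tensorIso leftUnit rightUnit)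
open Groth.Agent.Lib.TensorMod.Invertible (isInvertible_tensorPow isInvertible_tensorMod)
open Groth.Agent.Lib.Curves.LES (isoK exactK₂ mapK mapK_injective_of_mono)

variable {k : Type u} [Field k] [IsAlgClosed k] {C : Scheme.{u}} [C.Over (Spec (CommRingCat.of k))]
  [IsProper (C ↘ Spec (CommRingCat.of k))] [Smooth (C ↘ Spec (CommRingCat.of k))] [ConnectedSpace ↥C]
  (hdim : topologicalKrullDim ↥C = 1)

local notation "pC" => (C ↘ Spec (CommRingCat.of k))
local notation "SS" => pullback pC pC

include hdim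

theorem finrank_step {σ : C ⟶ C} (hσσ : σ ≫ σ = 𝟙 C) (hσp : σ ≫ pC = pC)
    {N : (SS).Modules} (hN : PicF.IsInvertible N)
    (hNinv : _root_.ClSub.IsInverseOf N (_root_.ClSub.idealMod
      (pullback.lift (𝟙 C) σ ((Category.id_comp pC).trans hσp.symm)).ker))
    {F G : C.Modules} (hF : PicF.IsInvertible F) (hG : PicF.IsInvertible G) (j : ℕ)
    (hneg : Curv2.deg k C F 1 + Curv2.deg k C G 1 + ((j : ℤ) + 1) * (2 - 2 * (Curv2.genus k C : ℤ)) < 0) :
    letI := sqOver (k := k) (C := C)
    Module.finrank k (Coh.HH SS (CohB1.tensorMod (box (k := k) F G) (CohB1.tensorPow N (j + 1))) 0) =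
      Module.finrank k (Coh.HH SS (CohB1.tensorMod (box (k := k) F G) (CohB1.tensorPow N j)) 0) := by
  letI := sqOver (k := k) (C := C)
  haveI := isIntegral_C (k := k) hdim
  have hB : PicF.IsInvertible (box (k := k) F G) :=
    isInvertible_tensorMod (PicLoc.isInvertible_pullback _ hF) (PicLoc.isInvertible_pullback _ hG)
  set s := pullback.lift (𝟙 C) σ ((Category.id_comp pC).trans hσp.symm)
  set M := CohB1.tensorMod (box (k := k) F G) (CohB1.tensorPow N (j + 1))
  have hM : PicF.IsInvertible M := isInvertible_tensorMod hB (isInvertible_tensorPow hN _)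
  haveI : Subsingleton (Coh.HH C ((Scheme.Modules.pullback s).obj M) 0) := by
    refine not_nontrivial_iff_subsingleton.1 fun h => ?_
    have h1 := Curves.Degree.deg_nonneg (k := k) hdim.le (PicLoc.isInvertible_pullback s hM) h
    rw [Vanish.deg_graph hdim hσσ hσp hN hNinv hF hG (j + 1)] at h1
    push_cast at h1
    omega
  haveI := Vanish.subsingleton_twist_quot hdim s (pullback.lift_fst _ _ _) hM 0 ‹_›
  obtain ⟨e⟩ := hNinv
  have hS := Twist.twistSeq_shortExact hM (Groth.Agent.Lib.ClSub.Quot.idealSeq_shortExact s.ker)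
  haveI := hS.mono_f
  refine (isoK k (rightUnit M) 0).finrank_eq.symm.trans (Eq.trans ?_
    (isoK k (assoc (box (k := k) F G) (CohB1.tensorMod (CohB1.tensorPow N j) N) _ ≪≫
      tensorIso (Iso.refl _) (assoc (CohB1.tensorPow N j) N _ ≪≫ tensorIso (Iso.refl _) e ≪≫
        rightUnit _)) 0).finrank_eq)
  exact (LinearEquiv.ofBijective _ ⟨mapK_injective_of_mono k _, fun z =>
    (exactK₂ k hS 0 z).1 (Subsingleton.elim (α := Coh.HH SS (CohB1.tensorMod M (_root_.ClSub.quotMod s.ker)) 0) _ _)⟩).finrank_eq.symm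

end Groth.Agent.Lib.HypSq96.Drop
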