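import Groth.Agent.Lib.HypSq96.Surf

/-!
# Euler characteristics of box products twisted by the graph of an involution
-/

set_option autoImplicit false
set_option linter.style.haveILetI false
set_option linter.unusedSectionVars false
set_option maxHeartbeats 1000000
universe u

open CategoryTheory CategoryTheory.Limits AlgebraicGeometry TopologicalSpace

namespace Groth.Agent.Lib.HypSq96.Euler

open Groth.Agent.Lib Groth.Agent.Lib.HypSq96.Basic Groth.Agent.Lib.HypSq96.Table Groth.Agent.Lib.Snapper
open Groth.Agent.Lib.TensorMod.Basic (comm assoc tensorIso leftUnit rightUnit)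
open Groth.Agent.Lib.TensorMod.Invertible (isInvertible_tensorPow isInvertible_tensorMod)

variable {k : Type u} [Field k] [IsAlgClosed k] {C : Scheme.{u}} [C.Over (Spec (CommRingCat.of k))]
  [IsProper (C ↘ Spec (CommRingCat.of k))] [Smooth (C ↘ Spec (CommRingCat.of k))] [ConnectedSpace ↥C]
  (hdim : topologicalKrullDim ↥C = 1)

local notation "pC" => (C ↘ Spec (CommRingCat.of k))
local notation "SS" => pullback pC pC

include hdim

theorem euler_structure : Curv2.euler k C (Coh.structureModule C) = 1 - (Curv2.genus k C : ℤ) := by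
  haveI := isIntegral_C (k := k) hdim
  rw [Curves.Euler.euler_eq (Curves.Degree.isGood_structureModule (k := k) hdim.le).vanish]
  have h0 : Curves.Euler.hdim k C (Coh.structureModule C) 0 = 1 :=
    Curves.GlobalSections.finrank_h0_structure k C
  rw [h0]
  rfl

theorem euler_eq_deg {F : C.Modules} :
    Curv2.euler k C F = Curv2.deg k C F 1 + (1 - (Curv2.genus k C : ℤ)) := by
  rw [Curves.Degree.deg_eq, euler_structure hdim]
  ring

theorem euler_quot_section (s : C ⟶ SS) (hs : s ≫ pullback.fst pC pC = 𝟙 C) :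
    letI := sqOver (k := k) (C := C)
    FGA.eulerCharLE k SS (_root_.ClSub.quotMod s.ker) 2 = 1 - (Curv2.genus k C : ℤ) := by
  letI := sqOver (k := k) (C := C)
  haveI := isIntegral_C (k := k) hdim
  haveI := isProper_sq (k := k) (C := C)
  haveI := Curves.GlobalSections.isNoetherian_of_proper k SS
  haveI : IsClosedImmersion (s ≫ pullback.fst pC pC) := hs ▸ inferInstance
  haveI : IsClosedImmersion s := IsClosedImmersion.of_comp s (pullback.fst pC pC)
  letI : s.image.Over (Spec (CommRingCat.of k)) := SurfInt.Surface.overSub (k := k) s.ker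
  haveI : IsIso s.toImage := inferInstance
  haveI := TensorMod.QCohInv.isQCoh_structureModule C
  have hover : s.toImage ≫ s.imageι ≫ pullback.fst pC pC ≫ pC = pC := by
    rw [s.toImage_imageι_assoc, reassoc_of% hs]
  let eO : Coh.structureModule s.image ≅ (Coh.push s.toImage).obj (Coh.structureModule C) :=
    @asIso _ _ _ _ (_root_.ClSub.unitToPush s.toImage) (SurfInt.PushIso.isIso_unitToPush s.toImage)
  have h := SurfInt.Push.euler_push (k := k) s.toImage hover (Coh.structureModule C)
  rw [← Curves.Euler.euler_eq_of_iso eO] at h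
  rw [← Snapper.Chi.euler_eq_eulerCharLE (dim_sq hdim), SurfInt.Surface.euler_quot s.ker]
  exact h.trans (euler_structure hdim)

theorem euler_sq :
    letI := sqOver (k := k) (C := C)
    FGA.eulerCharLE k SS (Coh.structureModule SS) 2 = (1 - (Curv2.genus k C : ℤ)) ^ 2 := by
  letI := sqOver (k := k) (C := C)
  have hO := Curves.Degree.isCoh_structureModule (X := C)
  have h := euler_box (k := k) hdim hO hO
  rw [euler_structure hdim, Chi.eulerCharLE_of_iso
    (tensorIso (PicLoc.pullbackStructureIso (pullback.fst pC pC))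
      (PicLoc.pullbackStructureIso (pullback.snd pC pC)) ≪≫ rightUnit _) 2] at h
  rw [h, sq]

theorem intNum_box_graph {σ : C ⟶ C} (hσσ : σ ≫ σ = 𝟙 C) (hσp : σ ≫ pC = pC)
    {N : (SS).Modules} (hN : PicF.IsInvertible N)
    (hNinv : _root_.ClSub.IsInverseOf N (_root_.ClSub.idealMod
      (pullback.lift (𝟙 C) σ ((Category.id_comp pC).trans hσp.symm)).ker))
    {F G : C.Modules} (hF : PicF.IsInvertible F) (hG : PicF.IsInvertible G) :
    letI := sqOver (k := k) (C := C)
    FGA.intNum k SS 2 ![box (k := k) F G, N] (Coh.structureModule SS) =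
      Curv2.deg k C F 1 + Curv2.deg k C G 1 := by
  letI := sqOver (k := k) (C := C)
  haveI := isIntegral_C (k := k) hdim
  haveI : IsIso σ := ⟨σ, hσσ, hσσ⟩
  have hB : PicF.IsInvertible (box (k := k) F G) :=
    isInvertible_tensorMod (PicLoc.isInvertible_pullback _ hF) (PicLoc.isInvertible_pullback _ hG)
  rw [IntNum.intNum_pair_comm, intNum_section hdim _ (pullback.lift_fst _ _ _) hN hNinv hB]
  refine (Curves.Euler.deg_eq_of_iso (TensorMod.Pullback.pullbackTensorIso _ _ _ ≪≫
      tensorIso
        ((Scheme.Modules.pullbackComp _ _).app F ≪≫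
          (Scheme.Modules.pullbackCongr (pullback.lift_fst _ _ _)).app F ≪≫
          (Scheme.Modules.pullbackId C).app F)
        ((Scheme.Modules.pullbackComp _ _).app G ≪≫
          (Scheme.Modules.pullbackCongr (pullback.lift_snd _ _ _)).app G)) 1).trans ?_
  show Curv2.deg k C (CohB1.tensorMod F ((Scheme.Modules.pullback σ).obj G)) 1 = _
  rw [Curves.Degree.deg_tensor hdim.le hF (PicLoc.isInvertible_pullback σ hG),
    SurfInt.PushIso.deg_pullback σ hσp hG]

/-- `χ(p₁^*F ⊗ p₂^*G ⊗ O(rΓ))`. -/
theorem euler_box_graph {σ : C ⟶ C} (hσσ : σ ≫ σ = 𝟙 C) (hσp : σ ≫ pC = pC)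
    {N : (SS).Modules} (hN : PicF.IsInvertible N)
    (hNinv : _root_.ClSub.IsInverseOf N (_root_.ClSub.idealMod
      (pullback.lift (𝟙 C) σ ((Category.id_comp pC).trans hσp.symm)).ker))
    {F G : C.Modules} (hF : PicF.IsInvertible F) (hG : PicF.IsInvertible G) (r : ℕ) :
    letI := sqOver (k := k) (C := C)
    Curv2.euler k SS (CohB1.tensorMod (box (k := k) F G) (CohB1.tensorPow N r)) =
      (Curv2.deg k C F 1 + (1 - (Curv2.genus k C : ℤ))) * (Curv2.deg k C G 1 + (1 - (Curv2.genus k C : ℤ))) +
        (r : ℤ) * (Curv2.deg k C F 1 + Curv2.deg k C G 1) -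
        ((Curv2.genus k C : ℤ) - 1) * r * (r + 2) := by
  letI := sqOver (k := k) (C := C)
  haveI := isIntegral_C (k := k) hdim
  haveI := isProper_sq (k := k) (C := C)
  haveI := Curves.GlobalSections.isNoetherian_of_proper k SS
  have hfin := Snapper.Finite.cohFinite k SS
  have hd := dim_sq' (k := k) hdim
  have hO := Twist.isCoh_structureModule SS
  set s := pullback.lift (𝟙 C) σ ((Category.id_comp pC).trans hσp.symm)
  have hs : s ≫ pullback.fst pC pC = 𝟙 C := pullback.lift_fst _ _ _
  have hNN := Surf.intNum_graph_self hdim hσσ hσp hN hNinv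
  have hBN := intNum_box_graph hdim hσσ hσp hN hNinv hF hG
  obtain ⟨e⟩ := hNinv
  have hI : PicF.IsInvertible (_root_.ClSub.idealMod s.ker) :=
    TensorMod.TensorInv.isInvertible_of_tensor_iso (comm _ _ ≪≫ e)
  have hq := SurfInt.Effective.chi_quot hfin (d := 2) (dim_sq hdim) hI
  rw [euler_quot_section hdim s hs] at hq
  have hB : PicF.IsInvertible (box (k := k) F G) :=
    isInvertible_tensorMod (PicLoc.isInvertible_pullback _ hF) (PicLoc.isInvertible_pullback _ hG)
  have expand : ∀ L M : (SS).Modules,
      FGA.intNum k SS 2 ![L, M] (Coh.structureModule SS) =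
        FGA.eulerCharLE k SS (Coh.structureModule SS) 2 - FGA.eulerCharLE k SS L 2 -
          FGA.eulerCharLE k SS M 2 + FGA.eulerCharLE k SS (CohB1.tensorMod L M) 2 := fun L M => by
    rw [IntNum.intNum_pair]
    simp only [Vanish.sym]
    rw [Chi.eulerCharLE_of_iso (rightUnit M) 2, Chi.eulerCharLE_of_iso (rightUnit L) 2,
      Chi.eulerCharLE_of_iso (tensorIso (Iso.refl M) (rightUnit L) ≪≫ comm M L) 2]
    ring
  have hNI := IntNum.intNum_pair_inverse hfin hd hN hI e hN hO
  rw [expand, hNN, Chi.eulerCharLE_of_iso (comm _ _ ≪≫ e) 2] at hNI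
  have hChiN : FGA.eulerCharLE k SS N 2 - FGA.eulerCharLE k SS (Coh.structureModule SS) 2 =
      3 * (1 - (Curv2.genus k C : ℤ)) := by linarith
  rw [Chi.euler_eq_eulerCharLE (dim_sq hdim)]
  have e0 : CohB1.tensorMod (box (k := k) F G) (CohB1.tensorPow N 0) ≅ box (k := k) F G :=
    rightUnit (box (k := k) F G)
  have e1 : ∀ r : ℕ, CohB1.tensorMod (box (k := k) F G) (CohB1.tensorPow N (r + 1)) ≅
      CohB1.tensorMod (CohB1.tensorMod (box (k := k) F G) (CohB1.tensorPow N r)) N := fun r =>
    (assoc (box (k := k) F G) (CohB1.tensorPow N r) N).symm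
  have hinum : ∀ r : ℕ,
      FGA.intNum k SS 2 ![CohB1.tensorMod (box (k := k) F G) (CohB1.tensorPow N r), N]
        (Coh.structureModule SS) =
      Curv2.deg k C F 1 + Curv2.deg k C G 1 + (r : ℤ) * (2 - 2 * (Curv2.genus k C : ℤ)) := by
    intro r
    induction r with
    | zero =>
      rw [IntNum.intNum_pair, IntNum.sym_cons_iso e0, ← IntNum.intNum_pair, hBN]
      push_cast
      ring
    | succ r ih =>
      rw [IntNum.intNum_pair, IntNum.sym_cons_iso (e1 r),
        ← IntNum.intNum_pair,
        IntNum.intNum_pair_tensor_left hfin hd (isInvertible_tensorMod hB (isInvertible_tensorPow hN r)) hN hN hO,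
        ih, hNN]
      push_cast
      ring
  induction r with
  | zero =>
    rw [Chi.eulerCharLE_of_iso e0 2,
      euler_box (k := k) hdim (Curves.Degree.isCoh_of_isInvertible hF)
        (Curves.Degree.isCoh_of_isInvertible hG), euler_eq_deg hdim, euler_eq_deg hdim]
    push_cast
    ring
  | succ r ih =>
    have h := hinum r
    rw [expand, ih] at h
    rw [Chi.eulerCharLE_of_iso (e1 r) 2]
    push_cast
    linear_combination h + hChiN

end Groth.Agent.Lib.HypSq96.Euler
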