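import Groth.Agent.Lib.HypSq96.Vanish
import Groth.Agent.Lib.Snapper.Finite

/-!
# The restriction sequence to the graph, numerically
-/

set_option autoImplicit false
set_option linter.style.haveILetI false
set_option linter.unusedSectionVars false
set_option maxHeartbeats 1000000
universe u

open CategoryTheory CategoryTheory.Limits AlgebraicGeometry TopologicalSpace

namespace Groth.Agent.Lib.HypSq96.Step

open Groth.Agent.Lib Groth.Agent.Lib.HypSq96.Basic Groth.Agent.Lib.HypSq96.Table Groth.Agent.Lib.Snapper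
open Groth.Agent.Lib.TensorMod.Basic (comm assoc tensorIso leftUnit rightUnit)
open Groth.Agent.Lib.TensorMod.Invertible (isInvertible_tensorPow isInvertible_tensorMod)
open Groth.Agent.Lib.Curves.LES (isoK exactK₂ exactK₃ exactK₁ δK mapK mapK_injective_of_mono)

theorem finrank_eq_add_of_exact {K : Type*} [Field K] {A B D : Type*} [AddCommGroup A] [Module K A]
    [AddCommGroup B] [Module K B] [AddCommGroup D] [Module K D] [Module.Finite K B]
    {f : A →ₗ[K] B} {g : B →ₗ[K] D} (hf : Function.Injective f) (hfg : Function.Exact f g)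
    (hg : Function.Surjective g) :
    Module.finrank K B = Module.finrank K A + Module.finrank K D := by
  rw [← LinearMap.finrank_range_add_finrank_ker g, LinearMap.range_eq_top.2 hg, finrank_top,
    LinearMap.exact_iff.1 hfg, LinearMap.finrank_range_of_inj hf, add_comm]

variable {k : Type u} [Field k] [IsAlgClosed k] {C : Scheme.{u}} [C.Over (Spec (CommRingCat.of k))]
  [IsProper (C ↘ Spec (CommRingCat.of k))] [Smooth (C ↘ Spec (CommRingCat.of k))] [ConnectedSpace ↥C]
  (hdim : topologicalKrullDim ↥C = 1)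

local notation "pC" => (C ↘ Spec (CommRingCat.of k))
local notation "SS" => pullback pC pC

include hdim

theorem finrank_step_add {σ : C ⟶ C} (hσp : σ ≫ pC = pC)
    {N : (SS).Modules} (hN : PicF.IsInvertible N)
    (hNinv : _root_.ClSub.IsInverseOf N (_root_.ClSub.idealMod
      (pullback.lift (𝟙 C) σ ((Category.id_comp pC).trans hσp.symm)).ker))
    {B : (SS).Modules} (hB : PicF.IsInvertible B) (j : ℕ)
    (h1 : Subsingleton (Coh.HH SS (CohB1.tensorMod B (CohB1.tensorPow N j)) 1)) :
    letI := sqOver (k := k) (C := C)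
    Module.finrank k (Coh.HH SS (CohB1.tensorMod B (CohB1.tensorPow N (j + 1))) 0) =
      Module.finrank k (Coh.HH SS (CohB1.tensorMod B (CohB1.tensorPow N j)) 0) +
        Module.finrank k (Coh.HH C
          ((Scheme.Modules.pullback (pullback.lift (𝟙 C) σ ((Category.id_comp pC).trans hσp.symm))).obj
            (CohB1.tensorMod B (CohB1.tensorPow N (j + 1)))) 0) := by
  letI := sqOver (k := k) (C := C)
  haveI := isProper_sq (k := k) (C := C)
  set s := pullback.lift (𝟙 C) σ ((Category.id_comp pC).trans hσp.symm)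
  set M := CohB1.tensorMod B (CohB1.tensorPow N (j + 1))
  have hM : PicF.IsInvertible M := isInvertible_tensorMod hB (isInvertible_tensorPow hN _)
  obtain ⟨e⟩ := hNinv
  obtain ⟨eq⟩ := Vanish.nonempty_twist_quot_equiv (k := k) hdim s (pullback.lift_fst _ _ _) hM 0
  let eI : CohB1.tensorMod M (_root_.ClSub.idealMod s.ker) ≅ CohB1.tensorMod B (CohB1.tensorPow N j) :=
    assoc B (CohB1.tensorMod (CohB1.tensorPow N j) N) _ ≪≫
      tensorIso (Iso.refl B) (assoc (CohB1.tensorPow N j) N _ ≪≫ tensorIso (Iso.refl _) e ≪≫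
        rightUnit _)
  have hS := Twist.twistSeq_shortExact hM (Groth.Agent.Lib.ClSub.Quot.idealSeq_shortExact s.ker)
  haveI := hS.mono_f
  haveI : Subsingleton (Coh.HH SS (CohB1.tensorMod M (_root_.ClSub.idealMod s.ker)) 1) :=
    (isoK k eI 1).toEquiv.subsingleton
  haveI : Module.Finite k (Coh.HH SS M 0) :=
    Snapper.Finite.cohFinite k SS M (Curves.Degree.isCoh_of_isInvertible hM) 0
  haveI : Module.Finite k (Coh.HH SS (CohB1.tensorMod M (Coh.structureModule SS)) 0) :=
    Module.Finite.equiv (isoK k (rightUnit M) 0).symm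
  rw [← (isoK k (rightUnit M) 0).finrank_eq, ← (isoK k eI 0).finrank_eq, ← eq.finrank_eq]
  exact finrank_eq_add_of_exact (@mapK_injective_of_mono _ k _ _ _ _ _ hS.mono_f)
    (exactK₂ k hS 0) fun z => (exactK₃ k hS 0 1 rfl z).1 (Subsingleton.elim (α := Coh.HH SS (CohB1.tensorMod M (_root_.ClSub.idealMod s.ker)) 1) _ _)

theorem finrank_one_eq {σ : C ⟶ C} (hσp : σ ≫ pC = pC)
    {N : (SS).Modules} (hN : PicF.IsInvertible N)
    (hNinv : _root_.ClSub.IsInverseOf N (_root_.ClSub.idealMod
      (pullback.lift (𝟙 C) σ ((Category.id_comp pC).trans hσp.symm)).ker))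
    {B : (SS).Modules} (hB : PicF.IsInvertible B) (j : ℕ)
    (h1 : Subsingleton (Coh.HH SS (CohB1.tensorMod B (CohB1.tensorPow N j)) 1))
    (h2 : Subsingleton (Coh.HH SS (CohB1.tensorMod B (CohB1.tensorPow N j)) 2)) :
    letI := sqOver (k := k) (C := C)
    Module.finrank k (Coh.HH SS (CohB1.tensorMod B (CohB1.tensorPow N (j + 1))) 1) =
        Module.finrank k (Coh.HH C
          ((Scheme.Modules.pullback (pullback.lift (𝟙 C) σ ((Category.id_comp pC).trans hσp.symm))).obj
            (CohB1.tensorMod B (CohB1.tensorPow N (j + 1)))) 1) := by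
  letI := sqOver (k := k) (C := C)
  set s := pullback.lift (𝟙 C) σ ((Category.id_comp pC).trans hσp.symm)
  set M := CohB1.tensorMod B (CohB1.tensorPow N (j + 1))
  have hM : PicF.IsInvertible M := isInvertible_tensorMod hB (isInvertible_tensorPow hN _)
  obtain ⟨e⟩ := hNinv
  obtain ⟨eq⟩ := Vanish.nonempty_twist_quot_equiv (k := k) hdim s (pullback.lift_fst _ _ _) hM 1
  let eI : CohB1.tensorMod M (_root_.ClSub.idealMod s.ker) ≅ CohB1.tensorMod B (CohB1.tensorPow N j) :=
    assoc B (CohB1.tensorMod (CohB1.tensorPow N j) N) _ ≪≫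
      tensorIso (Iso.refl B) (assoc (CohB1.tensorPow N j) N _ ≪≫ tensorIso (Iso.refl _) e ≪≫
        rightUnit _)
  have hS := Twist.twistSeq_shortExact hM (Groth.Agent.Lib.ClSub.Quot.idealSeq_shortExact s.ker)
  haveI : Subsingleton (Coh.HH SS (CohB1.tensorMod M (_root_.ClSub.idealMod s.ker)) 1) :=
    (isoK k eI 1).toEquiv.subsingleton
  haveI : Subsingleton (Coh.HH SS (CohB1.tensorMod M (_root_.ClSub.idealMod s.ker)) 2) :=
    (isoK k eI 2).toEquiv.subsingleton
  rw [← (isoK k (rightUnit M) 1).finrank_eq, ← eq.finrank_eq]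
  refine (LinearEquiv.ofBijective _ ⟨(injective_iff_map_eq_zero _).2 fun z hz => ?_, fun z =>
    (exactK₃ k hS 1 2 rfl z).1 (Subsingleton.elim (α := Coh.HH SS (CohB1.tensorMod M (_root_.ClSub.idealMod s.ker)) 2) _ _)⟩).finrank_eq
  obtain ⟨w, rfl⟩ := (exactK₂ k hS 1 z).1 hz
  rw [Subsingleton.elim (α := Coh.HH SS (CohB1.tensorMod M (_root_.ClSub.idealMod s.ker)) 1) w 0]
  exact map_zero _

end Groth.Agent.Lib.HypSq96.Step
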