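import Groth.Agent.Lib.HypSq96.Canon
import Groth.Agent.Lib.HypSq96.Step

/-!
# The first cohomology of the box powers twisted by the graph
-/

set_option autoImplicit false
set_option linter.style.haveILetI false
set_option linter.unusedSectionVars false
set_option maxHeartbeats 1000000
universe u

open CategoryTheory CategoryTheory.Limits AlgebraicGeometry TopologicalSpace

namespace Groth.Agent.Lib.HypSq96.Rows

open Groth.Agent.Lib Groth.Agent.Lib.HypSq96.Basic
open Groth.Agent.Lib.TensorMod.Invertible (isInvertible_tensorPow isInvertible_tensorMod)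
open Groth.Agent.Lib.Curves.LES (isoK)

variable {k : Type u} [Field k] [IsAlgClosed k] {C : Scheme.{u}} [C.Over (Spec (CommRingCat.of k))]
  [IsProper (C ↘ Spec (CommRingCat.of k))] [Smooth (C ↘ Spec (CommRingCat.of k))] [ConnectedSpace ↥C]
  (hdim : topologicalKrullDim ↥C = 1)
  (κ : C ⟶ CohB1.ProjSpace 1 k) (hκ : κ ≫ CohB1.ProjSpace.toSpec 1 k = (C ↘ Spec (CommRingCat.of k)))
  [IsFinite κ] [Flat κ] (hκ2 : ∀ y : ↥(CohB1.ProjSpace 1 k), κ.finrank y = 2)

local notation "pC" => (C ↘ Spec (CommRingCat.of k))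
local notation "SS" => pullback pC pC
set_option quotPrecheck false in
local notation "LL" => ((Scheme.Modules.pullback κ).obj (Twist.twistProjSpace 1 k 1))

include hdim hκ hκ2

theorem h1_pow {s : ℕ} (hs : s + 1 ≤ Curv2.genus k C) :
    Module.finrank k (Coh.HH C (CohB1.tensorPow LL s) 1) = Curv2.genus k C - s := by
  haveI := isIntegral_C (k := k) hdim
  have hG := Curves.Degree.isGood (k := k) hdim.le
    (isInvertible_tensorPow (PicLoc.isInvertible_pullback κ (isInvertible_O1 (k := k))) s)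
  have h := Euler.euler_eq_deg (k := k) hdim (F := CohB1.tensorPow LL s)
  rw [Curves.Euler.euler_eq hG.vanish, deg_pullback_pow hdim κ hκ hκ2] at h
  have h0 : Curves.Euler.hdim k C (CohB1.tensorPow LL s) 0 = s + 1 :=
    Canon.finrank_h0_pow hdim κ hκ hκ2 hs
  rw [h0] at h
  change ((s + 1 : ℕ) : ℤ) - (Module.finrank k (Coh.HH C (CohB1.tensorPow LL s) 1) : ℤ) = _ at h
  push_cast at h
  omega

theorem h1_graph {σ : C ⟶ C} (hσ : σ ≫ κ = κ) (hσσ : σ ≫ σ = 𝟙 C) (hσp : σ ≫ pC = pC)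
    {N : (SS).Modules} (hN : PicF.IsInvertible N)
    (hNinv : _root_.ClSub.IsInverseOf N (_root_.ClSub.idealMod
      (pullback.lift (𝟙 C) σ ((Category.id_comp pC).trans hσp.symm)).ker))
    {m r : ℕ} (hm : Curv2.genus k C ≤ m) (hg : 1 ≤ Curv2.genus k C)
    (hpos : ((Curv2.genus k C : ℤ) - 1) * r < 2 * m)
    (hle : 2 * (m : ℤ) ≤ ((Curv2.genus k C : ℤ) - 1) * (r + 1)) :
    letI := sqOver (k := k) (C := C)
    (Module.finrank k (Coh.HH SS (CohB1.tensorMod (box (k := k) (CohB1.tensorPow LL m)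
      (CohB1.tensorPow LL m)) (CohB1.tensorPow N r)) 1) : ℤ) =
      (Curv2.genus k C : ℤ) - (2 * (m : ℤ) - ((Curv2.genus k C : ℤ) - 1) * r) := by
  letI := sqOver (k := k) (C := C)
  obtain _ | j := r
  · push_cast at hle hpos
    omega
  have hL := isInvertible_tensorPow (PicLoc.isInvertible_pullback κ (isInvertible_O1 (k := k))) m
  have hB : PicF.IsInvertible (box (k := k) (CohB1.tensorPow LL m) (CohB1.tensorPow LL m)) :=
    isInvertible_tensorMod (PicLoc.isInvertible_pullback _ hL) (PicLoc.isInvertible_pullback _ hL)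
  have hv := subsingleton_pow hdim κ hκ hκ2 hm
  have h1 := Vanish.subsingleton_one hdim hσσ hσp hN hNinv hL hL hv hv hg j (by
    rw [deg_pullback_pow hdim κ hκ hκ2]
    push_cast at hpos ⊢
    linarith)
  have h2 := Vanish.subsingleton_two hdim hσp hN hNinv hL hL hv hv 2 j le_rfl
  rw [Step.finrank_one_eq hdim hσp hN hNinv hB j h1 h2]
  obtain ⟨s, hs⟩ : ∃ s : ℕ, (s : ℤ) = 2 * (m : ℤ) - ((Curv2.genus k C : ℤ) - 1) * (j + 1 : ℕ) :=
    ⟨_, Int.toNat_of_nonneg (by linarith)⟩
  obtain ⟨e⟩ := Canon.nonempty_graph_iso hdim κ hκ hκ2 hσ hσσ hσp hN hNinv hg m (j + 1) s hs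
  have hsg : s + 1 ≤ Curv2.genus k C := by
    have : (s : ℤ) + 1 ≤ (Curv2.genus k C : ℤ) := by
      push_cast at hs hle ⊢
      linarith
    exact_mod_cast this
  rw [(isoK k e 1).finrank_eq, h1_pow hdim κ hκ hκ2 hsg, Nat.cast_sub (by omega), hs]

end Groth.Agent.Lib.HypSq96.Rows
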