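import Groth.Agent.Lib.HypSq96.Table
import Groth.Agent.S18892
import Groth.Agent.S1612
import Groth.Agent.Lib.SurfInt.Surface
import Groth.Agent.Lib.SurfInt.PushIso
import Groth.Agent.Lib.Snapper.Finite
import Groth.Agent.Lib.Snapper.IntNum
import Groth.Agent.Lib.TensorMod.TensorInv
import Groth.Agent.Lib.Flat55.DimSums
import Groth.Agent.Lib.ModelFibre.IdealPull
import Groth.Agent.Lib.RelDiv.Cartier
import Groth.Agent.Lib.BirMap96.SmoothCritScheme
import Groth.Prelude.Def_Omega2

/-!
# Intersection numbers of graphs on the square of a curve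
-/

set_option autoImplicit false
set_option linter.style.haveILetI false
set_option linter.unusedSectionVars false
set_option maxHeartbeats 1000000
universe u

open CategoryTheory CategoryTheory.Limits AlgebraicGeometry TopologicalSpace

namespace Groth.Agent.Lib.HypSq96.Surf

open Groth.Agent.Lib Groth.Agent.Lib.HypSq96.Basic Groth.Agent.Lib.HypSq96.Table Groth.Agent.Lib.Snapper
open Groth.Agent.Lib.TensorMod.Basic (comm tensorIso leftUnit rightUnit)

variable {k : Type u} [Field k] [IsAlgClosed k] {C : Scheme.{u}} [C.Over (Spec (CommRingCat.of k))]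
  [IsProper (C ↘ Spec (CommRingCat.of k))] [Smooth (C ↘ Spec (CommRingCat.of k))] [ConnectedSpace ↥C]
  (hdim : topologicalKrullDim ↥C = 1)

local notation "pC" => (C ↘ Spec (CommRingCat.of k))

include hdim

theorem deg_conormal_diag :
    Curv2.deg k C ((Scheme.Modules.pullback (pullback.diagonal pC)).obj
      (_root_.ClSub.idealMod (pullback.diagonal pC).ker)) 1 = 2 * (Curv2.genus k C : ℤ) - 2 := by
  haveI := isIntegral_C (k := k) hdim
  exact (Groth.Agent.S1612.result k C ⟨inferInstance, inferInstance, inferInstance, hdim⟩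
    (Curves.GlobalSections.finrank_h0_structure k C)).2

theorem deg_pullback_inverse (s : C ⟶ pullback pC pC) {N : (pullback pC pC).Modules}
    (hN : PicF.IsInvertible N)
    (hNinv : _root_.ClSub.IsInverseOf N (_root_.ClSub.idealMod s.ker)) :
    Curv2.deg k C ((Scheme.Modules.pullback s).obj N) 1 =
      - Curv2.deg k C ((Scheme.Modules.pullback s).obj (_root_.ClSub.idealMod s.ker)) 1 := by
  haveI := isIntegral_C (k := k) hdim
  obtain ⟨e⟩ := hNinv
  have hI : PicF.IsInvertible (_root_.ClSub.idealMod s.ker) :=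
    TensorMod.TensorInv.isInvertible_of_tensor_iso (comm _ _ ≪≫ e)
  exact Curves.Degree.deg_of_isInverseOf (k := k) hdim.le (PicLoc.isInvertible_pullback s hN)
    (PicLoc.isInvertible_pullback s hI)
    ⟨(TensorMod.Pullback.pullbackTensorIso s _ _).symm ≪≫ (Scheme.Modules.pullback s).mapIso e ≪≫
      PicLoc.pullbackStructureIso s⟩

/-- `Δ² = 2 - 2g`. -/
theorem intNum_diag_self {ND : (pullback pC pC).Modules} (hND : PicF.IsInvertible ND)
    (hNDinv : _root_.ClSub.IsInverseOf ND (_root_.ClSub.idealMod (pullback.diagonal pC).ker)) :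
    letI := sqOver (k := k) (C := C)
    FGA.intNum k (pullback pC pC) 2 ![ND, ND] (Coh.structureModule (pullback pC pC)) =
      2 - 2 * (Curv2.genus k C : ℤ) := by
  letI := sqOver (k := k) (C := C)
  rw [intNum_section hdim _ (pullback.diagonal_fst pC) hND hNDinv hND,
    deg_pullback_inverse hdim _ hND hNDinv, deg_conormal_diag hdim]
  ring

theorem invol_sq (h2 : (2 : k) ≠ 0) (hg : 2 ≤ Curv2.genus k C)
    (κ : C ⟶ CohB1.ProjSpace 1 k) (hκ : κ ≫ CohB1.ProjSpace.toSpec 1 k = pC)
    [IsFinite κ] [Flat κ] (hκ2 : ∀ y : ↥(CohB1.ProjSpace 1 k), κ.finrank y = 2)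
    {σ : C ⟶ C} (hσ : σ ≫ κ = κ) (hσ1 : σ ≠ 𝟙 C) : σ ≫ σ = 𝟙 C := by
  haveI := isIntegral_C (k := k) hdim
  obtain ⟨τ, hτ, hττ, hτ1⟩ := CurveFF.DoubleInvol.exists_invol κ hκ hdim hκ2 h2
  have := Groth.Agent.S18892.result k h2 pC hdim hg κ κ hκ hκ hκ2 hκ2 σ τ hσ hσ1 hτ hτ1
  rw [this, hττ]

/-- The conormal module of the graph of an involution is the sheaf of differentials. -/
theorem nonempty_conormal_graph {σ : C ⟶ C} (hσσ : σ ≫ σ = 𝟙 C) (hσp : σ ≫ pC = pC) :
    Nonempty ((Scheme.Modules.pullback (pullback.lift (𝟙 C) σ ((Category.id_comp pC).trans hσp.symm))).obj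
      (_root_.ClSub.idealMod (pullback.lift (𝟙 C) σ ((Category.id_comp pC).trans hσp.symm)).ker) ≅
        Omega.sheaf pC) := by
  haveI := isIntegral_C (k := k) hdim
  set s := pullback.lift (𝟙 C) σ ((Category.id_comp pC).trans hσp.symm) with hs
  let ψ : pullback pC pC ⟶ pullback pC pC :=
    pullback.lift (pullback.fst pC pC) (pullback.snd pC pC ≫ σ) (by rw [Category.assoc, hσp, pullback.condition])
  have hψ1 : ψ ≫ pullback.fst pC pC = pullback.fst pC pC := pullback.lift_fst _ _ _
  have hψ2 : ψ ≫ pullback.snd pC pC = pullback.snd pC pC ≫ σ := pullback.lift_snd _ _ _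
  have hs1 : s ≫ pullback.fst pC pC = 𝟙 C := pullback.lift_fst _ _ _
  have hs2 : s ≫ pullback.snd pC pC = σ := pullback.lift_snd _ _ _
  have hψψ : ψ ≫ ψ = 𝟙 _ := by
    refine pullback.hom_ext ?_ ?_
    · rw [Category.assoc, hψ1, hψ1, Category.id_comp]
    · rw [Category.assoc, hψ2, ← Category.assoc, hψ2, Category.assoc, hσσ, Category.comp_id, Category.id_comp]
  haveI : IsIso ψ := ⟨ψ, hψψ, hψψ⟩
  have hsψ : s ≫ ψ = pullback.diagonal pC := by
    refine pullback.hom_ext ?_ ?_
    · rw [Category.assoc, hψ1, hs1, pullback.diagonal_fst]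
    · rw [Category.assoc, hψ2, ← Category.assoc, hs2, hσσ, pullback.diagonal_snd]
  have hψs : pullback.diagonal pC ≫ ψ = s := by
    refine pullback.hom_ext ?_ ?_
    · rw [Category.assoc, hψ1, hs1, pullback.diagonal_fst]
    · rw [Category.assoc, hψ2, hs2, pullback.diagonal_snd_assoc]
  have hker : s.ker = (pullback.diagonal pC).ker.comap ψ := by
    set J := (pullback.diagonal pC).ker
    have hc : ∀ K : (pullback pC pC).IdealSheafData, (K.comap ψ).comap ψ = K := fun K => by
      rw [← Scheme.IdealSheafData.comap_comp, hψψ, Scheme.IdealSheafData.comap_id]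
    rw [← hψs, ← Scheme.IdealSheafData.map_ker]
    refine le_antisymm ?_ (Scheme.IdealSheafData.le_map_iff_comap_le.2 (hc J).le)
    have h1 := Scheme.IdealSheafData.comap_mono (f := ψ) (Scheme.IdealSheafData.comap_map_le J ψ)
    simpa only [hc] using h1
  have hD : BlowUp.IsEffCartierIdeal (pullback.diagonal pC).ker := by
    haveI : SmoothOfRelativeDimension 1 pC := by
      letI : (Spec (CommRingCat.of k)).Over (Spec (CommRingCat.of k)) := ⟨𝟙 _⟩
      haveI : LocallyOfFiniteType (Spec (CommRingCat.of k) ↘ Spec (CommRingCat.of k)) :=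
        inferInstanceAs (LocallyOfFiniteType (𝟙 _))
      have h0 : topologicalKrullDim (Spec (CommRingCat.of k)) = ((0 : ℕ) : WithBot ℕ∞) := by
        change topologicalKrullDim (PrimeSpectrum k) = _
        rw [PrimeSpectrum.topologicalKrullDim_eq_ringKrullDim, ringKrullDim_eq_zero_of_field]
        rfl
      exact BirMap96.SmoothCritScheme.smoothOfRelativeDimension pC (Category.comp_id _) 1 0 hdim h0
    haveI : MorphismProperty.IsStableUnderBaseChange (@SmoothOfRelativeDimension 1 : MorphismProperty Scheme.{u}) :=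
      smoothOfRelativeDimension_isStableUnderBaseChange 1
    haveI : SmoothOfRelativeDimension 1 (pullback.fst pC pC) :=
      MorphismProperty.pullback_fst (P := @SmoothOfRelativeDimension 1) pC pC inferInstance
    refine RelDiv.Cartier.isEffCartier_of_isFinLocFree (pullback.fst pC pC) _ ?_
    haveI : IsIso (pullback.diagonal pC).toImage := inferInstance
    have hcomp : (pullback.diagonal pC).imageι ≫ pullback.fst pC pC =
        inv (pullback.diagonal pC).toImage := by
      rw [eq_comm, IsIso.inv_eq_of_hom_inv_id]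
      rw [Scheme.Hom.toImage_imageι_assoc, pullback.diagonal_fst]
    show Mor2.IsFinLocFree ((pullback.diagonal pC).imageι ≫ pullback.fst pC pC)
    rw [hcomp]
    exact ⟨inferInstance, inferInstance, inferInstance⟩
  obtain ⟨eI⟩ := ModelFibre.IdealPull.nonempty_pullback_idealMod ψ hD
    (fun U t ht _ x hx => Ideal.EffCartier.germ_app_mem_nonZeroDivisors_of_flat ψ t x hx (Flat.stalkMap ψ x) (Ideal.EffCartier.germ_mem_nonZeroDivisors U.2 ht (ψ x) hx))
  exact ⟨(Scheme.Modules.pullback s).mapIso (eqToIso (congrArg _root_.ClSub.idealMod hker) ≪≫ eI.symm) ≪≫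
        (Scheme.Modules.pullbackComp s ψ).app _ ≪≫ (Scheme.Modules.pullbackCongr hsψ).app _⟩

/-- `Γ² = 2 - 2g` for the graph of an involution. -/
theorem intNum_graph_self {σ : C ⟶ C} (hσσ : σ ≫ σ = 𝟙 C) (hσp : σ ≫ pC = pC)
    {N : (pullback pC pC).Modules} (hN : PicF.IsInvertible N)
    (hNinv : _root_.ClSub.IsInverseOf N (_root_.ClSub.idealMod
      (pullback.lift (𝟙 C) σ ((Category.id_comp pC).trans hσp.symm)).ker)) :
    letI := sqOver (k := k) (C := C)
    FGA.intNum k (pullback pC pC) 2 ![N, N] (Coh.structureModule (pullback pC pC)) =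
      2 - 2 * (Curv2.genus k C : ℤ) := by
  haveI := isIntegral_C (k := k) hdim
  letI := sqOver (k := k) (C := C)
  haveI := isProper_sq (k := k) (C := C)
  set s := pullback.lift (𝟙 C) σ ((Category.id_comp pC).trans hσp.symm) with hs
  obtain ⟨e⟩ := nonempty_conormal_graph (k := k) hdim hσσ hσp
  rw [intNum_section hdim s (pullback.lift_fst _ _ _) hN hNinv hN, deg_pullback_inverse hdim s hN hNinv]
  rw [(Curves.Euler.deg_eq_of_iso e 1).trans (deg_conormal_diag hdim)]
  ring

end Groth.Agent.Lib.HypSq96.Surf
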