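import Groth.Agent.Lib.HypSq96.Table
import Groth.Agent.Lib.SymCurve53.Main
import Groth.Agent.Lib.SchQuot.Transport
import Groth.Agent.S2908
import Groth.Agent.S2909
import Groth.Agent.S14521
import Groth.Agent.S11746
import Groth.Agent.H97.DimOneSetup
import Groth.Agent.H97.FiniteAffine
import Groth.Agent.Lib.IntSh43.Acyclic
import Groth.Agent.Lib.AffineCompl.Dim
import Groth.Agent.Lib.SurfInt.Curve
import Groth.Agent.H81.PushLocFree
import Groth.Agent.Lib.BirMap96.SmoothCritScheme
import Groth.Agent.Lib.FibreDeg.Strat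
import Groth.Agent.Lib.SurfInt.NegDef
import Groth.Agent.Lib.Perfect.Coherent

/-!
# Intersection numbers on the symmetric square of a curve
-/

noncomputable section

set_option autoImplicit false
set_option linter.style.haveILetI false
set_option linter.unusedSectionVars false
set_option maxHeartbeats 1000000
universe u

open CategoryTheory CategoryTheory.Limits AlgebraicGeometry TopologicalSpace

namespace Groth.Agent.Lib.HypSq96.Sym

open Groth.Agent.Lib Groth.Agent.Lib.HypSq96.Basic Groth.Agent.Lib.Snapper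

variable {k : Type u} [Field k] [IsAlgClosed k] {C : Scheme.{u}} [C.Over (Spec (CommRingCat.of k))]
  [IsProper (C ↘ Spec (CommRingCat.of k))] [Smooth (C ↘ Spec (CommRingCat.of k))] [ConnectedSpace ↥C]
  (hdim : topologicalKrullDim ↥C = 1)

local notation "pC" => (C ↘ Spec (CommRingCat.of k))

/-- The square as a fibre power. -/
def squareIso : SymProd.fibPow pC 2 ≅ (pullback pC pC) where
  hom := pullback.lift (WidePullback.π (fun _ : Fin 2 => pC) 0) (WidePullback.π (fun _ : Fin 2 => pC) 1)
    (by rw [WidePullback.π_arrow, WidePullback.π_arrow])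
  inv := WidePullback.lift (pullback.fst pC pC ≫ pC) ![pullback.fst pC pC, pullback.snd pC pC] (by
    intro j
    fin_cases j
    · rfl
    · exact pullback.condition.symm)
  hom_inv_id := by
    apply WidePullback.hom_ext
    · intro j
      rw [Category.assoc, WidePullback.lift_π, Category.id_comp]
      fin_cases j
      · exact pullback.lift_fst _ _ _
      · exact pullback.lift_snd _ _ _
    · rw [Category.assoc, WidePullback.lift_base, Category.id_comp, pullback.lift_fst_assoc]
      exact WidePullback.π_arrow (fun _ : Fin 2 => pC) 0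
  inv_hom_id := by
    apply pullback.hom_ext
    · rw [Category.assoc, pullback.lift_fst, WidePullback.lift_π, Category.id_comp]
      rfl
    · rw [Category.assoc, pullback.lift_snd, WidePullback.lift_π, Category.id_comp]
      rfl

variable (ρ : ULift.{u} (Equiv.Perm (Fin 2)) →* Aut (pullback (C ↘ Spec (CommRingCat.of k)) (C ↘ Spec (CommRingCat.of k))))
  (hρ : (ρ (ULift.up (Equiv.swap 0 1))).hom = (pullbackSymmetry (C ↘ Spec (CommRingCat.of k)) (C ↘ Spec (CommRingCat.of k))).hom)
  {Sq : Scheme.{u}} (π : (pullback (C ↘ Spec (CommRingCat.of k)) (C ↘ Spec (CommRingCat.of k))) ⟶ Sq) (hπ : SGA1.IsQuot ρ π) (q : Sq ⟶ Spec (CommRingCat.of k))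
  (hq : π ≫ q = pullback.fst (C ↘ Spec (CommRingCat.of k)) (C ↘ Spec (CommRingCat.of k)) ≫ (C ↘ Spec (CommRingCat.of k)))

include hρ in
theorem compat (g : ULift.{u} (Equiv.Perm (Fin 2))) :
    (SymProd.permActU pC 2 g).hom ≫ (squareIso (k := k) (C := C)).hom =
      (squareIso (k := k) (C := C)).hom ≫ (ρ g).hom := by
  obtain ⟨σ⟩ := g
  have h2 : ∀ s : Equiv.Perm (Fin 2), s = 1 ∨ s = Equiv.swap 0 1 := by decide
  rcases h2 σ with h | h <;> subst h
  · rw [show (ULift.up (1 : Equiv.Perm (Fin 2)) : ULift.{u} (Equiv.Perm (Fin 2))) = 1 from rfl,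
      map_one, map_one]
    exact (Category.id_comp _).trans (Category.comp_id _).symm
  · rw [hρ]
    show (SymProd.permAct pC 2 (Equiv.swap 0 1)).hom ≫ _ = _
    rw [SymProd.permAct_hom]
    simp only [squareIso, SymProd.permHom]
    apply pullback.hom_ext
    · rw [Category.assoc, Category.assoc, pullback.lift_fst, pullbackSymmetry_hom_comp_fst,
        WidePullback.lift_π, pullback.lift_snd]
      rfl
    · rw [Category.assoc, Category.assoc, pullback.lift_snd, pullbackSymmetry_hom_comp_snd,
        WidePullback.lift_π, pullback.lift_fst]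
      rfl

include hdim in
theorem isAF : SymProd.IsAF pC := by
  haveI := Curves.GlobalSections.isNoetherian_of_proper k C
  haveI : C.IsSeparated := ⟨by rw [← terminal.comp_from pC]; infer_instance⟩
  intro s T _
  exact H97.FiniteAffine.exists_affineOpen (NoetherianSpace.finite_irreducibleComponents (α := C)) T
    fun x _ => H97.DimOneSetup.ringKrullDim_stalk_le_one hdim.le x

include hdim hρ hπ hq in
theorem basics :
    IsProper q ∧ Smooth q ∧ Mor2.IsFinLocFreeOfDeg 2 π := by
  haveI : SmoothOfRelativeDimension 1 pC := by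
    letI : (Spec (CommRingCat.of k)).Over (Spec (CommRingCat.of k)) := ⟨𝟙 _⟩
    haveI : LocallyOfFiniteType (Spec (CommRingCat.of k) ↘ Spec (CommRingCat.of k)) :=
      inferInstanceAs (LocallyOfFiniteType (𝟙 _))
    haveI := isIntegral_C (k := k) hdim
    have h0 : topologicalKrullDim (Spec (CommRingCat.of k)) = ((0 : ℕ) : WithBot ℕ∞) := by
      change topologicalKrullDim (PrimeSpectrum k) = _
      rw [PrimeSpectrum.topologicalKrullDim_eq_ringKrullDim, ringKrullDim_eq_zero_of_field]
      rfl
    exact BirMap96.SmoothCritScheme.smoothOfRelativeDimension _ (Category.comp_id _) 1 0 hdim h0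
  let e := squareIso (k := k) (C := C)
  have hquot := SchQuot.Transport.isQuot_of_iso hπ e (Iso.refl Sq) (SymProd.permActU pC 2)
    (compat ρ hρ)
  have hS : SymProd.IsSymProd pC 2 (e.hom ≫ π ≫ (Iso.refl Sq).hom) q := by
    refine ⟨hquot, ?_⟩
    simp only [Iso.refl_hom, Category.comp_id, Category.assoc, hq]
    simp only [e, squareIso]
    rw [pullback.lift_fst_assoc]
    exact WidePullback.π_arrow (fun _ : Fin 2 => pC) 0
  obtain ⟨h1, h2, h3, -⟩ := SymCurve53.main pC (isAF hdim) _ q hS
  refine ⟨h1, h2, ?_⟩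
  have he : π = e.inv ≫ (e.hom ≫ π ≫ (Iso.refl Sq).hom) := by simp
  obtain ⟨⟨a1, a2, a3⟩, a4⟩ := h3
  refine ⟨⟨he ▸ inferInstance, he ▸ inferInstance, he ▸ inferInstance⟩, fun y => ?_⟩
  rw [he, congrFun (Scheme.Hom.finrank_comp_left_of_isIso e.inv _) y]
  simpa using a4 y

include hdim hρ hπ hq in
theorem intNum_pullback {M M' : Sq.Modules} (hM : PicF.IsInvertible M) (hM' : PicF.IsInvertible M') :
    letI := sqOver (k := k) (C := C)
    letI : Sq.Over (Spec (CommRingCat.of k)) := ⟨q⟩
    FGA.intNum k (pullback pC pC) 2 ![(Scheme.Modules.pullback π).obj M, (Scheme.Modules.pullback π).obj M']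
        (Coh.structureModule (pullback pC pC)) =
      2 * FGA.intNum k Sq 2 ![M, M'] (Coh.structureModule Sq) := by
  letI := sqOver (k := k) (C := C)
  letI : Sq.Over (Spec (CommRingCat.of k)) := ⟨q⟩
  obtain ⟨hprop, hsmooth, ⟨hfin, hflat, hlfp⟩, hdeg⟩ := basics hdim ρ hρ π hπ q hq
  haveI : IsProper (Sq ↘ Spec (CommRingCat.of k)) := hprop
  haveI := Table.isProper_sq (k := k) (C := C)
  obtain ⟨-, -, hint, hd2, -⟩ := IntTheory.ProductCurves.surface k (Table.isCurve (k := k) hdim)
    (Table.isCurve (k := k) hdim)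
  haveI : IsIntegral (pullback pC pC) := hint
  have hsurj : Function.Surjective π.base := (Groth.Agent.S2908.result ρ π hπ).1
  haveI : IrreducibleSpace Sq := by
    have h := (IrreducibleSpace.isIrreducible_univ ↥((pullback pC pC))).image π.base π.continuous.continuousOn
    rw [Set.image_univ, hsurj.range_eq] at h
    exact { isPreirreducible_univ := h.2, toNonempty := ⟨h.1.choose⟩ }
  haveI : IsReduced Sq := ⟨fun U => isReduced_of_injective (π.app U).hom (hπ.injective U)⟩
  have hdS : topologicalKrullDim Sq = 2 :=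
    (AffineCompl.Dim.topologicalKrullDim_of_finite_surjective π hsurj).symm.trans hd2
  let F : Sq.Modules := H81.PushLocFree.push π
  have hFr : FlatMod.IsFinLocFreeOfRank 2 F := fun y => by
    obtain ⟨U, n, hy, ⟨i⟩⟩ := H81.PushLocFree.isFinLocFree_push π y
    obtain rfl : n = 2 := (H81.PushLocFree.finrank_eq hy i).symm.trans (hdeg y)
    exact ⟨U, hy, ⟨i⟩⟩
  have hO : FlatMod.IsFinLocFreeOfRank 1 (Coh.structureModule Sq) :=
    TensorMod.LocFree.of_isInvertible (PicLoc.isInvertible_structureModule Sq)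
  have hFc : Coh.IsCoh F := Perfect.Coherent.isCoh_of_isFinLocFree
    (TensorMod.LocFree.of_rank hFr)
  have hOc : Coh.IsCoh (Coh.structureModule Sq) := Twist.isCoh_structureModule _
  have hsupp : ∀ {n : ℕ} {E : Sq.Modules}, 0 < n → FlatMod.IsFinLocFreeOfRank n E → ∀ y,
      y ∈ CohB1.support E := fun {n E} hn hE y hs => by
    obtain ⟨e⟩ := IntSh43.Acyclic.exists_stalk_equiv hE y
    haveI : Subsingleton (E.presheaf.stalk y) := hs
    haveI := e.injective.subsingleton
    have h := congrFun (Subsingleton.elim (0 : Fin n → Sq.presheaf.stalk y) 1) ⟨0, hn⟩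
    exact zero_ne_one h
  have hle : ∀ E : Sq.Modules, topologicalKrullDim ↥(CohB1.support E) ≤ ((2 : ℕ) : WithBot ℕ∞) :=
    fun E => (Topology.IsInducing.subtypeVal.topologicalKrullDim_le).trans (le_of_eq (by rw [hdS]; rfl))
  have hsfin : {ξ : Sq | topologicalKrullDim ↥(closure ({ξ} : Set Sq)) = ((2 : ℕ) : WithBot ℕ∞)}.Finite := by
    refine (Set.finite_singleton (genericPoint Sq)).subset fun ξ hξ => ?_
    refine SurfInt.Curve.eq_genericPoint_of_two_le (k := k) (Sq ↘ Spec (CommRingCat.of k)) hdS ?_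
    have h := VarDim.Basic.topologicalKrullDim_isGenericPoint (Sq ↘ Spec (CommRingCat.of k))
      (ξ := ξ) (T := closure {ξ}) rfl
    rw [Set.mem_setOf_eq, h] at hξ
    have : VarDim.Basic.pdim (Sq ↘ Spec (CommRingCat.of k)) ξ = 2 := by exact_mod_cast hξ
    exact this.ge
  have hM2 : ∀ i, PicF.IsInvertible (![M, M'] i) := fun i => by fin_cases i <;> assumption
  have key : FGA.intNum k Sq 2 ![M, M'] F = 2 * FGA.intNum k Sq 2 ![M, M'] (Coh.structureModule Sq) := by
    rw [Groth.Agent.S14521.result k Sq 2 hdS.le ![M, M'] hM2 F hFc (hle _) hsfin.toFinset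
        (fun ξ => by simp [hsupp two_pos hFr ξ]),
      Groth.Agent.S14521.result k Sq 2 hdS.le ![M, M'] hM2 _ hOc (hle _) hsfin.toFinset
        (fun ξ => by simp [hsupp one_pos hO ξ]), Finset.mul_sum]
    refine Finset.sum_congr rfl fun ξ _ => ?_
    obtain ⟨e⟩ := IntSh43.Acyclic.exists_stalk_equiv hFr ξ
    obtain ⟨e'⟩ := IntSh43.Acyclic.exists_stalk_equiv hO ξ
    rw [← e.length_eq, ← e'.length_eq, Module.length_pi_of_fintype, Module.length_pi_of_fintype,
      Finset.sum_const, Finset.sum_const, Finset.card_univ, Finset.card_univ, Fintype.card_fin,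
      Fintype.card_fin, one_smul, two_smul]
    rcases eq_or_ne (Module.length (Sq.presheaf.stalk ξ) (Sq.presheaf.stalk ξ)) ⊤ with h | h
    · simp [h]
    · rw [ENat.toNat_add h h]
      push_cast
      ring
  have hdX : topologicalKrullDim ↥((pullback pC pC)) ≤ ((2 : ℕ) : WithBot ℕ∞) := hd2.le
  have hrun := Groth.Agent.S11746.result k Sq (pullback pC pC) π hq 2 2 hdS.le hdX ![M, M'] hM2
    (Coh.structureModule (pullback pC pC)) (Twist.isCoh_structureModule _)
    ((Topology.IsInducing.subtypeVal.topologicalKrullDim_le).trans hdX)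
  rw [← key, ← hrun]
  congr 1
  funext i
  fin_cases i <;> rfl

include hdim in
theorem snd_snd (x : Spec (CommRingCat.of k) ⟶ C) (hx : x ≫ pC = 𝟙 (Spec (CommRingCat.of k)))
    {A : C.Modules} (hA : PicF.IsInvertible A)
    (hAinv : _root_.ClSub.IsInverseOf A (_root_.ClSub.idealMod x.ker)) :
    letI := sqOver (k := k) (C := C)
    FGA.intNum k (pullback pC pC) 2 ![(Scheme.Modules.pullback (pullback.snd pC pC)).obj A,
      (Scheme.Modules.pullback (pullback.snd pC pC)).obj A] (Coh.structureModule (pullback pC pC)) = 0 := by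
  letI := sqOver (k := k) (C := C)
  haveI := Table.isProper_sq (k := k) (C := C)
  haveI := Curves.GlobalSections.isNoetherian_of_proper k (pullback pC pC)
  have hI := Table.isInvertible_pt hdim x hx hA hAinv
  obtain ⟨e⟩ := hAinv
  have hP : PicF.IsInvertible ((Scheme.Modules.pullback (pullback.snd pC pC)).obj A) :=
    PicLoc.isInvertible_pullback _ hA
  rw [IntNum.intNum_pair_inverse (Snapper.Finite.cohFinite k (pullback pC pC)) (Table.dim_sq' hdim)
    (PicLoc.isInvertible_pullback _ hI) hP
    ((TensorMod.Pullback.pullbackTensorIso (pullback.snd pC pC) _ _).symm ≪≫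
      (Scheme.Modules.pullback _).mapIso (TensorMod.Basic.comm _ _ ≪≫ e) ≪≫ PicLoc.pullbackStructureIso _)
    hP (Twist.isCoh_structureModule _)]
  have h := IntTheory.ProductCurves.snd_pair k (Table.isCurve (k := k) hdim) (Table.isCurve (k := k) hdim) x hx x hx
    (pullback.lift (𝟙 C) (pC ≫ x) (by rw [Category.assoc, hx, Category.comp_id, Category.id_comp]))
    ⟨pullback.lift_fst _ _ _, pullback.lift_snd _ _ _⟩
    (pullback.lift (pC ≫ x) (𝟙 C) (by rw [Category.assoc, hx, Category.comp_id, Category.id_comp]))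
    ⟨pullback.lift_snd _ _ _, pullback.lift_fst _ _ _⟩ hP
  refine (congrArg Neg.neg h).trans ((neg_neg _).trans ?_)
  refine (Curves.Euler.deg_eq_of_iso ((Scheme.Modules.pullbackComp _ _).app A ≪≫
      (Scheme.Modules.pullbackCongr (pullback.lift_snd _ _ _)).app A) 1).trans ?_
  exact IntTheory.ProductCurves.deg_pullback_const k x A
    (PicGen.OpenUFD.nonempty_iso_spec k _ (PicLoc.isInvertible_pullback x hA)) _ rfl

include hdim in
theorem snd_section (x : Spec (CommRingCat.of k) ⟶ C) (hx : x ≫ pC = 𝟙 (Spec (CommRingCat.of k)))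
    {A : C.Modules} (hA : PicF.IsInvertible A)
    (hAinv : _root_.ClSub.IsInverseOf A (_root_.ClSub.idealMod x.ker))
    (s : C ⟶ (pullback pC pC)) (hs : s ≫ pullback.fst pC pC = 𝟙 C) (φ : C ⟶ C) [IsIso φ] (hφ : φ ≫ pC = pC)
    (hs2 : s ≫ pullback.snd pC pC = φ)
    {N : ((pullback pC pC)).Modules} (hN : PicF.IsInvertible N)
    (hNinv : _root_.ClSub.IsInverseOf N (_root_.ClSub.idealMod s.ker)) :
    letI := sqOver (k := k) (C := C)
    FGA.intNum k (pullback pC pC) 2 ![(Scheme.Modules.pullback (pullback.snd pC pC)).obj A, N]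
      (Coh.structureModule (pullback pC pC)) = 1 := by
  letI := sqOver (k := k) (C := C)
  rw [IntNum.intNum_pair_comm, Table.intNum_section hdim s hs hN hNinv (PicLoc.isInvertible_pullback _ hA)]
  refine (Curves.Euler.deg_eq_of_iso ((Scheme.Modules.pullbackComp _ _).app A ≪≫
      (Scheme.Modules.pullbackCongr hs2).app A) 1).trans ?_
  rw [SurfInt.PushIso.deg_pullback φ (k := k) hφ hA]
  exact Table.deg_point hdim x hx hA hAinv

end Groth.Agent.Lib.HypSq96.Sym
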