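import Groth.Agent.Lib.HypSq96.Basic
import Groth.Agent.Lib.IntTheory.ProductCurves
import Groth.Agent.Lib.SurfInt.Surface
import Groth.Agent.Lib.SurfInt.PushIso
import Groth.Agent.Lib.Snapper.Finite
import Groth.Agent.Lib.Snapper.IntNum
import Groth.Agent.Lib.TensorMod.TensorInv
import Groth.Agent.Lib.Flat55.DimSums

/-!
# The intersection table of the square of a curve
-/

set_option autoImplicit false
set_option linter.style.haveILetI false
set_option linter.unusedSectionVars false
set_option maxHeartbeats 1000000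
universe u

open CategoryTheory CategoryTheory.Limits AlgebraicGeometry TopologicalSpace

namespace Groth.Agent.Lib.HypSq96.Table

open Groth.Agent.Lib Groth.Agent.Lib.HypSq96.Basic Groth.Agent.Lib.Snapper
open Groth.Agent.Lib.TensorMod.Basic (comm assoc tensorIso leftUnit rightUnit)

variable {k : Type u} [Field k] [IsAlgClosed k] {C : Scheme.{u}} [C.Over (Spec (CommRingCat.of k))]
  [IsProper (C ↘ Spec (CommRingCat.of k))] [Smooth (C ↘ Spec (CommRingCat.of k))] [ConnectedSpace ↥C]
  (hdim : topologicalKrullDim ↥C = 1)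

local notation "pC" => (C ↘ Spec (CommRingCat.of k))
local notation "SS" => pullback pC pC

include hdim

theorem dim_sq : topologicalKrullDim ↥(pullback pC pC) ≤ ((2 : ℕ) : WithBot ℕ∞) := by
  rw [Flat55.DimSums.dim_pullback, hdim]
  rfl

theorem dim_sq' : topologicalKrullDim ↥(pullback pC pC) ≤ 2 := dim_sq hdim

omit hdim in
theorem isProper_sq :
    letI := sqOver (k := k) (C := C)
    IsProper ((pullback pC pC) ↘ Spec (CommRingCat.of k)) := by
  show IsProper (pullback.fst pC pC ≫ pC)
  infer_instance

/-- The intersection number of a section curve with a line bundle. -/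
theorem intNum_section (s : C ⟶ pullback pC pC) (hs : s ≫ pullback.fst pC pC = 𝟙 C)
    {N : (pullback pC pC).Modules} (hN : PicF.IsInvertible N)
    (hNinv : _root_.ClSub.IsInverseOf N (_root_.ClSub.idealMod s.ker))
    {M : (pullback pC pC).Modules} (hM : PicF.IsInvertible M) :
    letI := sqOver (k := k) (C := C)
    FGA.intNum k (pullback pC pC) 2 ![N, M] (Coh.structureModule (pullback pC pC)) =
      Curv2.deg k C ((Scheme.Modules.pullback s).obj M) 1 := by
  letI := sqOver (k := k) (C := C)
  haveI := isIntegral_C (k := k) hdim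
  haveI := isProper_sq (k := k) (C := C)
  haveI := Curves.GlobalSections.isNoetherian_of_proper k (pullback pC pC)
  haveI : IsSeparated (pullback.fst pC pC) := inferInstance
  haveI : IsClosedImmersion (s ≫ pullback.fst pC pC) := hs ▸ inferInstance
  haveI : IsClosedImmersion s := IsClosedImmersion.of_comp s (pullback.fst pC pC)
  have hfin := Snapper.Finite.cohFinite k (pullback pC pC)
  obtain ⟨e⟩ := hNinv
  have hI : PicF.IsInvertible (_root_.ClSub.idealMod s.ker) :=
    TensorMod.TensorInv.isInvertible_of_tensor_iso (comm _ _ ≪≫ e)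
  letI : s.image.Over (Spec (CommRingCat.of k)) := SurfInt.Surface.overSub (k := k) s.ker
  haveI : IsIso s.toImage := inferInstance
  rw [IntNum.intNum_pair_inverse hfin (dim_sq' hdim) hI hN (comm _ _ ≪≫ e) hM
    (Twist.isCoh_structureModule _)]
  have h := SurfInt.Surface.intNum_ideal_eq_neg_deg hfin (d := 2) (dim_sq hdim) hI hM
  rw [h, neg_neg, ← SurfInt.PushIso.deg_pullback s.toImage (k := k)
      (show s.toImage ≫ s.imageι ≫ pullback.fst pC pC ≫ pC = pC by
        rw [s.toImage_imageι_assoc, reassoc_of% hs])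
      (PicLoc.isInvertible_pullback s.imageι hM)]
  have he := Curves.Euler.euler_eq_of_iso (k := k) ((Scheme.Modules.pullbackComp s.toImage s.imageι).app M ≪≫
    (Scheme.Modules.pullbackCongr s.toImage_imageι).app M)
  simp only [Curv2.deg]
  exact congrArg (fun e : ℤ => e - ((1 : ℕ) : ℤ) * Curv2.euler k C (Coh.structureModule C)) he


theorem isCurve : Curve.IsSmoothProperCurve k C pC :=
  ⟨inferInstance, inferInstance, isIntegral_C (k := k) hdim, hdim⟩

variable (x : Spec (CommRingCat.of k) ⟶ C) (hx : x ≫ (C ↘ Spec (CommRingCat.of k)) = 𝟙 (Spec (CommRingCat.of k)))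
  {A : C.Modules} (hA : PicF.IsInvertible A)
  (hAinv : _root_.ClSub.IsInverseOf A (_root_.ClSub.idealMod x.ker))

include hx hA hAinv

theorem isInvertible_pt : PicF.IsInvertible (_root_.ClSub.idealMod x.ker) := by
  obtain ⟨e⟩ := hAinv
  exact TensorMod.TensorInv.isInvertible_of_tensor_iso (comm _ _ ≪≫ e)

theorem deg_point : Curv2.deg k C A 1 = 1 := by
  haveI := isIntegral_C (k := k) hdim
  obtain ⟨-, -, hd, -⟩ := IntTheory.ProductCurves.point_divisor k (isCurve (k := k) hdim) x hx
  rw [Curves.Degree.deg_of_isInverseOf (k := k) hdim.le hA (isInvertible_pt hdim x hx hA hAinv) hAinv, hd]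
  norm_num

/-- `(p₁^*A · P) = deg (P|_{x × C})`. -/
theorem fst_deg {P : (SS).Modules} (hP : PicF.IsInvertible P) :
    letI := sqOver (k := k) (C := C)
    FGA.intNum k SS 2 ![(Scheme.Modules.pullback (pullback.fst pC pC)).obj A, P] (Coh.structureModule SS) =
      Curv2.deg k C ((Scheme.Modules.pullback (pullback.lift (pC ≫ x) (𝟙 C)
        (by rw [Category.assoc, hx, Category.comp_id, Category.id_comp]))).obj P) 1 := by
  letI := sqOver (k := k) (C := C)
  haveI := isProper_sq (k := k) (C := C)
  haveI := Curves.GlobalSections.isNoetherian_of_proper k SS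
  have hI := isInvertible_pt hdim x hx hA hAinv
  obtain ⟨e⟩ := hAinv
  have h := IntTheory.ProductCurves.fst_pair k (isCurve (k := k) hdim) (isCurve (k := k) hdim) x hx
    (pullback.lift (pC ≫ x) (𝟙 C) (by rw [Category.assoc, hx, Category.comp_id, Category.id_comp]))
    ⟨pullback.lift_snd _ _ _, pullback.lift_fst _ _ _⟩ hP
  rw [IntNum.intNum_pair_inverse (Snapper.Finite.cohFinite k SS) (dim_sq' hdim)
    (PicLoc.isInvertible_pullback _ hI) (PicLoc.isInvertible_pullback _ hA)
    ((TensorMod.Pullback.pullbackTensorIso (pullback.fst pC pC) _ _).symm ≪≫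
      (Scheme.Modules.pullback _).mapIso (comm _ _ ≪≫ e) ≪≫ PicLoc.pullbackStructureIso _)
    hP (Twist.isCoh_structureModule _)]
  rw [show FGA.intNum k SS 2 ![(Scheme.Modules.pullback (pullback.fst pC pC)).obj
    (_root_.ClSub.idealMod x.ker), P] (Coh.structureModule SS) = _ from h, neg_neg]

theorem fst_fst :
    letI := sqOver (k := k) (C := C)
    FGA.intNum k SS 2 ![(Scheme.Modules.pullback (pullback.fst pC pC)).obj A,
      (Scheme.Modules.pullback (pullback.fst pC pC)).obj A] (Coh.structureModule SS) = 0 := by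
  have hP : PicF.IsInvertible ((Scheme.Modules.pullback (pullback.fst pC pC)).obj A) :=
    PicLoc.isInvertible_pullback _ hA
  rw [fst_deg hdim x hx hA hAinv hP]
  refine (Curves.Euler.deg_eq_of_iso ((Scheme.Modules.pullbackComp _ _).app A ≪≫
      (Scheme.Modules.pullbackCongr (pullback.lift_fst _ _ _)).app A) 1).trans ?_
  exact IntTheory.ProductCurves.deg_pullback_const k x A
    (PicGen.OpenUFD.nonempty_iso_spec k _ (PicLoc.isInvertible_pullback x hA)) _ rfl

theorem fst_snd :
    letI := sqOver (k := k) (C := C)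
    FGA.intNum k SS 2 ![(Scheme.Modules.pullback (pullback.fst pC pC)).obj A,
      (Scheme.Modules.pullback (pullback.snd pC pC)).obj A] (Coh.structureModule SS) = 1 := by
  have hP : PicF.IsInvertible ((Scheme.Modules.pullback (pullback.snd pC pC)).obj A) :=
    PicLoc.isInvertible_pullback _ hA
  rw [fst_deg hdim x hx hA hAinv hP]
  refine (Curves.Euler.deg_eq_of_iso ((Scheme.Modules.pullbackComp _ _).app A ≪≫
      (Scheme.Modules.pullbackCongr (pullback.lift_snd _ _ _)).app A ≪≫
      (Scheme.Modules.pullbackId C).app A) 1).trans ?_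
  exact deg_point hdim x hx hA hAinv

theorem fst_section (s : C ⟶ SS) (hs : s ≫ pullback.fst pC pC = 𝟙 C)
    {N : (SS).Modules} (hN : PicF.IsInvertible N)
    (hNinv : _root_.ClSub.IsInverseOf N (_root_.ClSub.idealMod s.ker)) :
    letI := sqOver (k := k) (C := C)
    FGA.intNum k SS 2 ![(Scheme.Modules.pullback (pullback.fst pC pC)).obj A, N]
      (Coh.structureModule SS) = 1 := by
  letI := sqOver (k := k) (C := C)
  rw [IntNum.intNum_pair_comm, intNum_section hdim s hs hN hNinv (PicLoc.isInvertible_pullback _ hA)]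
  refine (Curves.Euler.deg_eq_of_iso ((Scheme.Modules.pullbackComp _ _).app A ≪≫
      (Scheme.Modules.pullbackCongr hs).app A ≪≫ (Scheme.Modules.pullbackId C).app A) 1).trans ?_
  exact deg_point hdim x hx hA hAinv

end Groth.Agent.Lib.HypSq96.Table
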